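import Mathlib
import Cfsg.Agent.Lib.Helper10.BR0

/-!
# S0999 piece BR-N5 (helper12 for helper10): the centralizer of an involution of `N_G(P)`
inside `N_G(P)` has order `e` and a unique involution.
-/

set_option autoImplicit false
set_option linter.unusedSectionVars false

namespace Cfsg.Agent.Lib.Helper10.BR

open Cfsg
open Cfsg.Agent.Lib.Helper83 (trivIrr)
open scoped ComplexConjugate

/-- Pure group theory: `N = P · C_N(τ)` with trivial intersection. -/
theorem cent_N_of_card_aux {G : Type*} [Group G] (P N : Subgroup G) (hPN : P ≤ N) (τ : G)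
    (hτ : τ ∈ N) (hτ2 : orderOf τ = 2)
    (hsq : ∀ u ∈ P, u * u = 1 → u = 1)
    (hs1 : ∀ u ∈ P, τ * u * τ⁻¹ = u⁻¹)
    (hs2 : ∀ σ ∈ N, orderOf σ = 2 → ∃ u ∈ P, σ = τ * u)
    (hs3 : ∀ u ∈ P, ∃ w ∈ P, w⁻¹ * τ * w = τ * u) :
    Nat.card N =
      Nat.card P * Nat.card (N ⊓ Subgroup.centralizer ({τ} : Set G) : Subgroup G) := by
  have hcomm : ∀ c ∈ (N ⊓ Subgroup.centralizer ({τ} : Set G) : Subgroup G), c * τ = τ * c := by
    intro c hc
    exact (Subgroup.mem_centralizer_iff.mp hc.2 τ (Set.mem_singleton τ)).symm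
  have hPE : ∀ u ∈ P, u ∈ (N ⊓ Subgroup.centralizer ({τ} : Set G) : Subgroup G) → u = 1 := by
    intro u hu huE
    have h1 := hs1 u hu
    have h2 := hcomm u huE
    apply hsq u hu
    have h3 : u⁻¹ = u := by rw [← h1, ← h2, mul_inv_cancel_right]
    calc u * u = u * u⁻¹ := by rw [h3]
      _ = 1 := mul_inv_cancel u
  let f : P × (N ⊓ Subgroup.centralizer ({τ} : Set G) : Subgroup G) → N :=
    fun x => ⟨(x.1 : G) * (x.2 : G), N.mul_mem (hPN x.1.2) x.2.2.1⟩
  have hf_inj : Function.Injective f := by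
    rintro ⟨⟨w, hw⟩, ⟨c, hc⟩⟩ ⟨⟨w', hw'⟩, ⟨c', hc'⟩⟩ hEq
    have h1 : w * c = w' * c' := congrArg Subtype.val hEq
    have h2 : w'⁻¹ * w = c' * c⁻¹ := by
      rw [inv_mul_eq_iff_eq_mul, ← mul_assoc, eq_mul_inv_iff_mul_eq]
      exact h1
    have h3' : w'⁻¹ * w ∈ (N ⊓ Subgroup.centralizer ({τ} : Set G) : Subgroup G) := by
      rw [h2]
      exact Subgroup.mul_mem _ hc' (Subgroup.inv_mem _ hc)
    have h3 : w'⁻¹ * w = 1 := hPE _ (P.mul_mem (P.inv_mem hw') hw) h3'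
    have h4 : w = w' := by
      rw [inv_mul_eq_one] at h3
      exact h3.symm
    subst h4
    have h5 : c = c' := mul_left_cancel h1
    subst h5
    rfl
  have hf_surj : Function.Surjective f := by
    rintro ⟨n, hn⟩
    have h1 : orderOf (n * τ * n⁻¹) = 2 := by
      rw [← hτ2]
      exact (SemiconjBy.orderOf_eq n (show SemiconjBy n τ (n * τ * n⁻¹) by
        simp [SemiconjBy])).symm
    have h2 : n * τ * n⁻¹ ∈ N := N.mul_mem (N.mul_mem hn hτ) (N.inv_mem hn)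
    obtain ⟨u, hu, h3⟩ := hs2 _ h2 h1
    obtain ⟨w, hw, h4⟩ := hs3 u hu
    have h5 : w * n ∈ (N ⊓ Subgroup.centralizer ({τ} : Set G) : Subgroup G) := by
      refine ⟨N.mul_mem (hPN hw) hn, ?_⟩
      show w * n ∈ Subgroup.centralizer ({τ} : Set G)
      rw [Subgroup.mem_centralizer_iff]
      intro x hx
      rw [Set.mem_singleton_iff] at hx
      subst hx
      have h6 : n * x * n⁻¹ = w⁻¹ * x * w := by rw [h3, h4]
      have h7 : n * x = w⁻¹ * x * w * n := by rw [← h6]; group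
      calc x * (w * n) = w * (w⁻¹ * x * w * n) := by group
        _ = w * (n * x) := by rw [h7]
        _ = w * n * x := by group
    refine ⟨(⟨w⁻¹, P.inv_mem hw⟩, ⟨w * n, h5⟩), ?_⟩
    apply Subtype.ext
    show w⁻¹ * (w * n) = n
    group
  have hcard := Nat.card_congr (Equiv.ofBijective f ⟨hf_inj, hf_surj⟩)
  rw [Nat.card_prod] at hcard
  exact hcard.symm

section T

variable {G : Type*} [Group G] [Fintype G] {p e t : ℕ} {P : Subgroup G} {ε : ℤ} {x₀ : ℕ}
  {A B Y D : Finset (IrrCharacter G)}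

theorem cent_N_of_sq_aux (h : Tab G p e t P ε x₀ A B Y D) (u : G) (hu : u ∈ P)
    (hu2 : u * u = 1) : u = 1 := by
  have h1 : orderOf u ∣ 2 := orderOf_dvd_of_pow_eq_one (by rw [pow_two]; exact hu2)
  have h2 : orderOf u ∣ p := by
    have h3 := orderOf_dvd_natCard (⟨u, hu⟩ : P)
    rw [h.cardP, Subgroup.orderOf_mk] at h3
    exact h3
  have h3 : Nat.Coprime 2 p := by
    rw [Nat.coprime_primes Nat.prime_two h.hp]
    have := h.hp5
    omega
  have h4 : orderOf u ∣ 1 := by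
    have h5 := Nat.dvd_gcd h1 h2
    rwa [h3] at h5
  exact orderOf_eq_one_iff.mp (Nat.dvd_one.mp h4)

/-- BR-N5 -/
theorem cent_N_of (h : Tab G p e t P ε x₀ A B Y D) (τ : G)
    (hτ : τ ∈ Subgroup.normalizer (P : Set G)) (hτ2 : orderOf τ = 2)
    (hs : (∀ u ∈ P, τ * u * τ⁻¹ = u⁻¹) ∧
      (∀ σ ∈ Subgroup.normalizer (P : Set G), orderOf σ = 2 → ∃ u ∈ P, σ = τ * u) ∧
      (∀ u ∈ P, orderOf (τ * u) = 2 ∧ ∃ w ∈ P, w⁻¹ * τ * w = τ * u)) :
    Nat.card (Subgroup.normalizer (P : Set G) ⊓ Subgroup.centralizer ({τ} : Set G) :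
      Subgroup G) = e ∧
    (∀ σ ∈ Subgroup.normalizer (P : Set G) ⊓ Subgroup.centralizer ({τ} : Set G),
      orderOf σ = 2 → σ = τ) := by
  obtain ⟨hs1, hs2, hs3⟩ := hs
  constructor
  · have hc := cent_N_of_card_aux P (Subgroup.normalizer (P : Set G)) Subgroup.le_normalizer τ hτ
      hτ2 (cent_N_of_sq_aux h) hs1 hs2 (fun u hu => (hs3 u hu).2)
    rw [h.cardN, h.cardP, mul_comm e p] at hc
    exact (Nat.eq_of_mul_eq_mul_left h.hp.pos hc).symm
  · intro σ hσ hσ2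
    obtain ⟨u, hu, rfl⟩ := hs2 σ hσ.1 hσ2
    have h1 : τ * (τ * u) = τ * u * τ :=
      Subgroup.mem_centralizer_iff.mp hσ.2 τ (Set.mem_singleton τ)
    have h2 : τ * u * τ⁻¹ = u := by
      have h1' : τ * u = u * τ := mul_left_cancel (a := τ) (by rw [h1, mul_assoc])
      rw [h1', mul_inv_cancel_right]
    have h3 : u⁻¹ = u := by rw [← hs1 u hu, h2]
    have h4 : u = 1 := by
      apply cent_N_of_sq_aux h u hu
      calc u * u = u * u⁻¹ := by rw [h3]
        _ = 1 := mul_inv_cancel u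
    rw [h4, mul_one]

end T

end Cfsg.Agent.Lib.Helper10.BR
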