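import Cfsg.Agent.Lib.Helper15.BG12Defs3
import Cfsg.Agent.Lib.Helper8.BG10P5
import Cfsg.Agent.Lib.Helper8.BG10Q12C
import Cfsg.Agent.S1414

/-!
# B&G 12.7, piece T1: `τ₂(M) = {p}` (helper12, for helper15)
-/

set_option autoImplicit false

open Cfsg Cfsg.Agent.Lib.Helper32 Cfsg.Agent.Lib.Helper32.BG10 Cfsg.Agent.Lib.Helper3.BG12
  Cfsg.Agent.Lib.Helper15.BG12

namespace Cfsg.Agent.Lib.Helper12.BG12x

universe u

variable {G : Type u} [Group G] [Finite G]

/-- A subgroup `K` of `N`, normal in `N`, with `K ⊔ R = N` for a `q`-group `R`, contains every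
`p`-subgroup of `N` (`p ≠ q`). -/
theorem t1_le_of_sup {p q : ℕ} [Fact p.Prime] [Fact q.Prime] (hpq : p ≠ q)
    {N K R X : Subgroup G} (hKN : K ≤ N) (hRN : R ≤ N)
    (hnorm : N ≤ Subgroup.normalizer (K : Set G)) (hsup : K ⊔ R = N)
    (hR : IsPGroup q R) (hX : IsPGroup p X) (hXN : X ≤ N) : X ≤ K := by
  have hpp : p.Prime := Fact.out
  have hqq : q.Prime := Fact.out
  have hKn : (K.subgroupOf N).Normal := (Subgroup.normal_subgroupOf_iff_le_normalizer hKN).mpr hnorm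
  have hidx : (K.subgroupOf N).index ∣ Nat.card (R.subgroupOf N) := by
    have h1 : K.subgroupOf N ⊔ R.subgroupOf N = ⊤ := by
      rw [← Subgroup.subgroupOf_sup hKN hRN, hsup, Subgroup.subgroupOf_self]
    have h2 : (K.subgroupOf N).relIndex (K.subgroupOf N ⊔ R.subgroupOf N) =
        (K.subgroupOf N).relIndex (R.subgroupOf N) :=
      Subgroup.relIndex_sup_left (R.subgroupOf N) (K.subgroupOf N)
    rw [h1, Subgroup.relIndex_top_right] at h2
    rw [h2]
    exact Subgroup.relIndex_dvd_card _ _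
  obtain ⟨k, hk⟩ := IsPGroup.iff_card.mp (hR.comap_subtype (K := N))
  have hk' : Nat.card (R.subgroupOf N) = q ^ k := hk
  have hcop : ((K.subgroupOf N).index).Coprime p := by
    rw [hk'] at hidx
    exact Nat.Coprime.coprime_dvd_left hidx
      (Nat.Coprime.pow_left k ((Nat.coprime_primes hqq hpp).mpr (Ne.symm hpq)))
  obtain ⟨P, hP⟩ := (hX.comap_subtype (K := N)).exists_le_sylow
  have hPK := sylow_le_of_index_coprime p P (K.subgroupOf N) hcop
  intro y hy
  have h1 : (⟨y, hXN hy⟩ : ↥N) ∈ K.subgroupOf N := hPK (hP (show (⟨y, hXN hy⟩ : ↥N) ∈ X.subgroupOf N from hy))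
  exact h1

theorem tau2_eq_singleton (hG : IsMinSimpleOddOrder G) (h16 : H16 G) (h17 : H17 G) (h18 : H18 G)
    {M E : Subgroup G} {p : ℕ} [Fact p.Prime] {A : Subgroup G} (h : Ctx7 M E p A)
    {S : Subgroup G} (hS : S ∈ sylSet p (⊤ : Subgroup G)) {x : G} (hxS : x ∈ S) (hxM : x ∉ M)
    (hxA : x ∈ Subgroup.normalizer (A : Set G))
    (hZA : omegaZ p S ≤ A) (hZ : Nat.card (omegaZ p S) = p) : tau2 M = {p} := by
  have hpp : p.Prime := Fact.out
  obtain ⟨hM, hE, hp, hAE, hA, hA2⟩ := h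
  ext q
  simp only [Set.mem_singleton_iff]
  constructor
  swap
  · rintro rfl; exact hp
  intro hq
  by_contra hqp
  have hqq : q.Prime := hq.1
  have : Fact q.Prime := ⟨hqq⟩
  have hEM : E ≤ M := hE.1
  have hAM : A ≤ M := hAE.trans hEM
  -- (1) an elementary abelian `q²`-subgroup `B` of `E`
  have hcardM : Nat.card M = Nat.card E * Nat.card (sigmaCore M) :=
    Cfsg.Agent.Lib.Helper8.BG10.q12c_card_of_complIn hE
  have hqσ : ¬ q ∣ Nat.card (sigmaCore M) := fun hd =>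
    hq.2.1 (Cfsg.Agent.Lib.Helper3.BG12S.mem_sigma_of_dvd_sigmaCore hqq hd)
  obtain ⟨Q, hQ⟩ := sylSet_nonempty q E
  have hQM : Q ∈ sylSet q M := by
    refine ⟨hQ.1.trans hEM, ?_⟩
    rw [hQ.2, hcardM, Nat.factorization_mul Nat.card_pos.ne' Nat.card_pos.ne']
    simp [Nat.factorization_eq_zero_of_not_dvd hqσ]
  obtain ⟨B, hBQ, hB, hB2⟩ := Cfsg.Agent.Lib.Helper3.BG12S.exists_elemAb2_le_sylSet hq.2.2.2 hQM
  have hBE : B ≤ E := hBQ.trans hQ.1
  have hBM : B ≤ M := hBE.trans hEM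
  obtain ⟨⟨hEA, -⟩, ⟨hCA, hMNA, -⟩, -⟩ := h18 M hM E hE p hp A ⟨hAE, hA, hA2⟩
  obtain ⟨⟨hEB, hXB⟩, -, -⟩ := h18 M hM E hE q hq B ⟨hBE, hB, hB2⟩
  have hCAE : Subgroup.centralizer (A : Set G) ≤ E := hCA.trans hMNA.le
  have hAB : A ⊓ B = ⊥ := by
    refine (Subgroup.disjoint_of_coprime_natCard ?_).eq_bot
    rw [hA2, hB2]
    exact Nat.Coprime.pow 2 2 ((Nat.coprime_primes hpp hqq).mpr (Ne.symm hqp))
  have hcomm : ∀ a ∈ A, ∀ b ∈ B, a * b = b * a := by
    intro a ha b hb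
    have h1 : a * b * a⁻¹ * b⁻¹ ∈ A ⊓ B := by
      refine ⟨?_, ?_⟩
      · have hbN := hEA (hBE hb)
        have h2 : b * a⁻¹ * b⁻¹ ∈ A :=
          (Subgroup.mem_normalizer_iff.mp hbN a⁻¹).mp (A.inv_mem ha)
        have e : a * b * a⁻¹ * b⁻¹ = a * (b * a⁻¹ * b⁻¹) := by group
        rw [e]
        exact A.mul_mem ha h2
      · have haN := hEB (hAE ha)
        have h2 : a * b * a⁻¹ ∈ B := (Subgroup.mem_normalizer_iff.mp haN b).mp hb
        exact B.mul_mem h2 (B.inv_mem hb)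
    rw [hAB, Subgroup.mem_bot] at h1
    have e : a * b = (a * b * a⁻¹ * b⁻¹) * (b * a) := by group
    rw [e, h1, one_mul]
  -- (2) `x` normalizes `B` but does not centralize it
  have hEqB : ∀ y ∈ E, y ^ q = 1 → y ∈ B := by
    intro y hyE hyq
    by_cases hy1 : y = 1
    · rw [hy1]; exact B.one_mem
    · have hord : orderOf y = q := orderOf_eq_prime hyq hy1
      have hcard : Nat.card (Subgroup.zpowers y) = q := by rw [Nat.card_zpowers, hord]
      have hle : Subgroup.zpowers y ≤ E := by rw [Subgroup.zpowers_le]; exact hyE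
      exact hXB _ hle hcard (Subgroup.mem_zpowers y)
  have hxB : x ∈ Subgroup.normalizer (B : Set G) := by
    rw [← cj_eq_self_iff]
    have hle : cj x B ≤ B := by
      intro y hy
      rw [mem_cj] at hy
      apply hEqB
      · apply hCAE
        rw [Subgroup.mem_centralizer_iff]
        intro a ha
        have ha' : x⁻¹ * a * x ∈ A := (Subgroup.mem_normalizer_iff''.mp hxA a).mp ha
        have hc := hcomm _ ha' _ hy
        have e1 : a * y = x * ((x⁻¹ * a * x) * (x⁻¹ * y * x)) * x⁻¹ := by group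
        have e2 : y * a = x * ((x⁻¹ * y * x) * (x⁻¹ * a * x)) * x⁻¹ := by group
        rw [e1, e2, hc]
      · have h1 := hB.2 _ hy
        have e : (x⁻¹ * y * x) ^ q = x⁻¹ * y ^ q * x := by
          have := conj_pow (a := x⁻¹) (b := y) (i := q)
          simpa using this
        rw [e] at h1
        have e2 : y ^ q = x * (x⁻¹ * y ^ q * x) * x⁻¹ := by group
        rw [e2, h1]
        group
    exact Subgroup.eq_of_le_of_card_ge hle (card_cj x B).ge
  have hxCB : x ∉ Subgroup.centralizer (B : Set G) := fun hx =>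
    hxM ((h16 M hM q B ⟨hBM, hB, hB2⟩).1 hx)
  -- (3) a maximal subgroup `H` over `N(Z)`
  have hZ1 : omegaZ p S ≠ ⊥ := by
    intro hbot
    rw [hbot, Subgroup.card_bot] at hZ
    exact hpp.one_lt.ne hZ
  have hZtop : omegaZ p S ≠ ⊤ := by
    intro htop
    apply hM.1
    rw [eq_top_iff, ← htop]
    exact hZA.trans hAM
  obtain ⟨H, hH, hNZH⟩ := exists_coatom_ge (minSimple_normalizer_ne_top hG hZ1 hZtop)
  have hCZH : Subgroup.centralizer (omegaZ p S : Set G) ≤ H :=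
    (Subgroup.centralizer_le_normalizer _).trans hNZH
  have hSH : S ≤ H := (le_centralizer_omegaZ p S).trans hCZH
  have hNSH : Subgroup.normalizer (S : Set G) ≤ H :=
    (normalizer_le_normalizer_omegaZ p S).trans hNZH
  have hSsylH : S ∈ sylSet p H := mem_sylSet_of_normalizer_le hS le_top hSH
  have hS1 : S ≠ ⊥ := by
    intro hbot
    apply hZ1
    rw [eq_bot_iff, ← hbot]
    exact omegaZ_le p S
  have hpH : p ∈ sigma H := mem_sigma_of_normalizer_le hSsylH hS1 hNSH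
  have hAH : A ≤ H := by
    refine le_trans ?_ hCZH
    intro a ha
    rw [Subgroup.mem_centralizer_iff]
    intro z hz
    exact congrArg Subtype.val (hA.1.is_comm.comm ⟨z, hZA hz⟩ ⟨a, ha⟩)
  have hBCA : B ≤ Subgroup.centralizer (A : Set G) := by
    intro b hb
    rw [Subgroup.mem_centralizer_iff]
    intro a ha
    exact hcomm a ha b hb
  have hBH : B ≤ H :=
    le_trans hBCA (le_trans (Subgroup.centralizer_le (SetLike.coe_subset_coe.mpr hZA)) hCZH)
  -- (4) `q ∈ σ(H)`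
  have hA1 : A ≠ ⊥ := by
    intro hbot
    rw [hbot, Subgroup.card_bot] at hA2
    have h1 : 1 < p ^ 2 := Nat.one_lt_pow (by norm_num) hpp.one_lt
    exact h1.ne hA2
  have hAp : IsPGroup p A := IsPGroup.of_card hA2
  have hAσH : A ≤ sigmaCore H :=
    Cfsg.Agent.Lib.Helper3.BG12S.pgroup_le_sigmaCore hG hH hpH hAp hAH
  have hACB : A ≤ Subgroup.centralizer (B : Set G) := by
    intro a ha
    rw [Subgroup.mem_centralizer_iff]
    intro b hb
    exact (hcomm a ha b hb).symm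
  have hqH : q ∈ sigma H := by
    by_contra hqH
    have hqτ : q ∈ tau2 H := by
      refine ⟨hqq, hqH, ?_, ?_⟩
      · by_contra h2
        exact hqH (alpha_sub_sigma hG (ut_of hG) hH ⟨hqq, h2⟩)
      · refine not_prankLE_of_le hBH
          (fun a ha b hb => congrArg Subtype.val (hB.1.is_comm.comm ⟨a, ha⟩ ⟨b, hb⟩)) hB.2 ?_
        rw [hB2, pow_one]
        nlinarith [hqq.one_lt]
    have hd := (h17 H hH q hqτ B ⟨hBH, hB, hB2⟩).2.2.2.1
    apply hA1
    rw [eq_bot_iff, ← hd]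
    exact le_inf hAσH hACB
  -- (5) the normal `q`-complement of `H_σ`
  have hni : ¬ IsIdealPrime q G :=
    (Cfsg.Agent.Lib.Helper8.BG10.bg10_5 hG (ut_of hG) M hM q hq.2.1 hq.2.2.1 hq.2.2.2).1
  have hqβ : q ∉ beta H := fun hb => hni hb.2
  have hqdH : q ∣ Nat.card H := by
    have h1 : Nat.card B ∣ Nat.card H := Subgroup.card_dvd_of_le hBH
    rw [hB2] at h1
    exact (dvd_pow_self q (by norm_num)).trans h1
  have hnpc : HasNormalPComplement q ↥(sigmaCore H) :=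
    ((Cfsg.Agent.S1414.result hG H hH).2.2.2.2 q hqq hqdH hqβ).2.1
  obtain ⟨K, hKσ, hKcop, hNK, hKR⟩ := Cfsg.Agent.Lib.Helper3.BG12S.exists_npc_sub hnpc
  obtain ⟨R, hR⟩ := sylSet_nonempty q (sigmaCore H)
  have hSσ : S ≤ sigmaCore H :=
    Cfsg.Agent.Lib.Helper3.BG12S.pgroup_le_sigmaCore hG hH hpH (isPGroup_of_mem_sylSet hS) hSH
  have hσNK : sigmaCore H ≤ Subgroup.normalizer (K : Set G) := Subgroup.le_normalizer.trans hNK
  have hSK : S ≤ K :=
    t1_le_of_sup (Ne.symm hqp) hKσ hR.1 hσNK (hKR R hR).1 (isPGroup_of_mem_sylSet hR)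
      (isPGroup_of_mem_sylSet hS) hSσ
  have hxK : x ∈ K := hSK hxS
  have hBσ : B ≤ sigmaCore H :=
    Cfsg.Agent.Lib.Helper3.BG12S.pgroup_le_sigmaCore hG hH hqH (IsPGroup.of_card hB2) hBH
  have hKB : K ⊓ B = ⊥ := by
    refine (Subgroup.disjoint_of_coprime_natCard ?_).eq_bot
    rw [hB2]
    exact Nat.Coprime.pow_right 2 hKcop
  apply hxCB
  rw [Subgroup.mem_centralizer_iff]
  intro b hb
  have h1 : b * x * b⁻¹ * x⁻¹ ∈ K ⊓ B := by
    refine ⟨?_, ?_⟩
    · have hbN := hσNK (hBσ hb)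
      have h2 : b * x * b⁻¹ ∈ K := (Subgroup.mem_normalizer_iff.mp hbN x).mp hxK
      exact K.mul_mem h2 (K.inv_mem hxK)
    · have h2 : x * b⁻¹ * x⁻¹ ∈ B := (Subgroup.mem_normalizer_iff.mp hxB b⁻¹).mp (B.inv_mem hb)
      have e : b * x * b⁻¹ * x⁻¹ = b * (x * b⁻¹ * x⁻¹) := by group
      rw [e]
      exact B.mul_mem hb h2
  rw [hKB, Subgroup.mem_bot] at h1
  have e : b * x = (b * x * b⁻¹ * x⁻¹) * (x * b) := by group
  rw [e, h1, one_mul]

end Cfsg.Agent.Lib.Helper12.BG12x
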