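import Mathlib
import Cfsg.Agent.Lib.Helper92.FT12Defs
import Cfsg.Agent.S1417
import Cfsg.Agent.S1418
import Cfsg.Agent.Lib.Helper3.BG12b
import Cfsg.Agent.Lib.Helper3.BG12Pieces

/-! S1421 (B&G Thm 12.12, helper92's project FT12), piece NORM: an element of prime order of `E`
normalizing no line of `A` has a nontrivial fixed point on `Z(M_σ)` (norm-map argument). -/

set_option autoImplicit false

namespace Cfsg.Agent.Lib.Helper12.FT12

universe u

open Cfsg Cfsg.Agent.Lib.Helper92.FT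


section Abs

variable {H W : Type*} [Group H] [CommGroup W]

/-- the norm map `w ↦ ∏_{i<n} c^i • w` -/
def norm_Nm (φ : H →* MulAut W) (n : ℕ) (c : H) : W →* W :=
  ∏ i ∈ Finset.range n, (φ (c ^ i)).toMonoidHom

theorem norm_Nm_apply (φ : H →* MulAut W) (n : ℕ) (c : H) (w : W) :
    norm_Nm φ n c w = ∏ i ∈ Finset.range n, φ (c ^ i) w := by
  unfold norm_Nm
  rw [MonoidHom.finsetProd_apply]
  rfl

theorem norm_Nm_fixed (φ : H →* MulAut W) (n : ℕ) (c : H) (hc : c ^ n = 1) (w : W) :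
    φ c (norm_Nm φ n c w) = norm_Nm φ n c w := by
  rw [norm_Nm_apply, map_prod]
  have h1 : ∀ i ∈ Finset.range n, φ c (φ (c ^ i) w) = φ (c ^ (i + 1)) w := by
    intro i _
    rw [pow_succ', map_mul, MulAut.mul_apply]
  rw [Finset.prod_congr rfl h1]
  have h2 := Finset.prod_range_succ (fun i => φ (c ^ i) w) n
  have h3 := Finset.prod_range_succ' (fun i => φ (c ^ i) w) n
  rw [h2] at h3
  simp only [hc, pow_zero] at h3
  exact (mul_right_cancel h3).symm

theorem norm_Nm_of_fixed (φ : H →* MulAut W) (n : ℕ) (c : H) (w : W) (hw : φ c w = w) :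
    norm_Nm φ n c w = w ^ n := by
  rw [norm_Nm_apply]
  have h1 : ∀ i : ℕ, φ (c ^ i) w = w := by
    intro i
    induction i with
    | zero => simp
    | succ i ih => rw [pow_succ, map_mul, MulAut.mul_apply, hw, ih]
  rw [Finset.prod_congr rfl (fun i _ => h1 i), Finset.prod_const, Finset.card_range]

theorem norm_Nm_comm_fixed (φ : H →* MulAut W) (n : ℕ) (c d : H) (hcd : d * c = c * d) (w : W)
    (hd : φ d w = w) : φ d (norm_Nm φ n c w) = norm_Nm φ n c w := by
  rw [norm_Nm_apply, map_prod]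
  refine Finset.prod_congr rfl (fun i _ => ?_)
  have h1 : d * c ^ i = c ^ i * d := ((Commute.pow_right (show Commute d c from hcd) i)).eq
  rw [← MulAut.mul_apply, ← map_mul, h1, map_mul, MulAut.mul_apply, hd]

theorem norm_pow_eq_one {p : ℕ} (hp : p.Prime) [Finite W] (hpW : ¬ p ∣ Nat.card W) (v : W)
    (hv : v ^ p = 1) : v = 1 := by
  have h1 : orderOf v ∣ p := orderOf_dvd_of_pow_eq_one hv
  have h2 : orderOf v ∣ Nat.card W := orderOf_dvd_natCard v
  rcases (Nat.dvd_prime hp).mp h1 with h | h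
  · exact orderOf_eq_one_iff.mp h
  · exact absurd (h ▸ h2) hpW

theorem norm_step1 [Finite W] (φ : H →* MulAut W) (p : ℕ) (hp : p.Prime)
    (hpW : ¬ p ∣ Nat.card W) (A : Subgroup H) (hAc : ∀ a ∈ A, ∀ b ∈ A, a * b = b * a)
    (hAp : ∀ a ∈ A, a ^ p = 1) (a b : H) (ha : a ∈ A) (ha1 : a ≠ 1) (hb : b ∈ A)
    (hba : b ∉ Subgroup.zpowers a) (hW : ∃ v : W, v ≠ 1) :
    ∃ c ∈ A, c ≠ 1 ∧ ∃ v' : W, v' ≠ 1 ∧ φ c v' = v' := by
  haveI : Fact p.Prime := ⟨hp⟩
  by_contra hcon
  have hno : ∀ c ∈ A, c ≠ 1 → ∀ v' : W, φ c v' = v' → v' = 1 := by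
    intro c hc hc1 v' hv'
    by_contra hv1
    exact hcon ⟨c, hc, hc1, v', hv1, hv'⟩
  have hNm1 : ∀ c ∈ A, c ≠ 1 → ∀ v : W, norm_Nm φ p c v = 1 := fun c hc hc1 v =>
    hno c hc hc1 _ (norm_Nm_fixed φ p c (hAp c hc) v)
  obtain ⟨v, hv⟩ := hW
  apply hv
  apply norm_pow_eq_one hp hpW
  have hD1 : ∏ j ∈ Finset.range p, norm_Nm φ p (a ^ j * b) v = 1 := by
    refine Finset.prod_eq_one (fun j _ => hNm1 _ (A.mul_mem (A.pow_mem ha j) hb) ?_ v)
    intro h
    apply hba
    have : b = (a ^ j)⁻¹ := eq_inv_of_mul_eq_one_right h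
    rw [this]
    exact Subgroup.inv_mem _ (Subgroup.pow_mem _ (Subgroup.mem_zpowers a) j)
  have hD2 : ∏ j ∈ Finset.range p, norm_Nm φ p (a ^ j * b) v = v ^ p := by
    simp only [norm_Nm_apply]
    rw [Finset.prod_comm]
    rw [Finset.prod_eq_single 0]
    · simp
    · intro i hi hi0
      have hi' : i < p := Finset.mem_range.mp hi
      have hai : a ^ i ≠ 1 := by
        intro h
        have hord : orderOf a = p := orderOf_eq_prime (hAp a ha) ha1
        have := orderOf_dvd_of_pow_eq_one h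
        rw [hord] at this
        exact hi0 (Nat.eq_zero_of_dvd_of_lt this hi')
      have h1 : ∀ j ∈ Finset.range p,
          φ ((a ^ j * b) ^ i) v = φ (b ^ i) (φ ((a ^ i) ^ j) v) := by
        intro j _
        have hc1 : Commute (a ^ j) b := hAc _ (A.pow_mem ha j) _ hb
        have hc2 : (a ^ j) ^ i * b ^ i = b ^ i * (a ^ i) ^ j := by
          rw [← pow_mul, mul_comm j i, pow_mul]
          exact hAc _ (A.pow_mem (A.pow_mem ha i) j) _ (A.pow_mem hb i)
        rw [hc1.mul_pow, hc2, map_mul, MulAut.mul_apply]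
      rw [Finset.prod_congr rfl h1, ← map_prod, ← norm_Nm_apply,
        hNm1 _ (A.pow_mem ha i) hai, map_one]
    · intro h
      exact absurd (Finset.mem_range.mpr hp.pos) h
  rw [← hD2, hD1]

theorem norm_abs [Finite H] [Finite W] (φ : H →* MulAut W) (p q : ℕ) (hp : p.Prime)
    (hq : q.Prime) (hpW : ¬ p ∣ Nat.card W) (A : Subgroup H)
    (hAc : ∀ a ∈ A, ∀ b ∈ A, a * b = b * a) (hAp : ∀ a ∈ A, a ^ p = 1)
    (hcard : Nat.card A = p ^ 2) (hfree : ∀ w : W, (∀ a ∈ A, φ a w = w) → w = 1)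
    (z : H) (hzq : z ^ q = 1) (hzA : ∀ a ∈ A, z * a * z⁻¹ ∈ A)
    (hline : ∀ c ∈ A, c ≠ 1 → ∀ k : ℕ, z * c * z⁻¹ ≠ c ^ k)
    (hW : ∃ v : W, v ≠ 1) :
    ∃ w : W, w ≠ 1 ∧ φ z w = w := by
  haveI : Fact p.Prime := ⟨hp⟩
  have hex : ∃ a ∈ A, a ≠ 1 ∧ ∃ b ∈ A, b ∉ Subgroup.zpowers a := by
    have hp2 : 1 < p ^ 2 := Nat.one_lt_pow (by norm_num) hp.one_lt
    have hnt : A ≠ ⊥ := by
      intro h
      rw [h, Subgroup.card_bot] at hcard
      omega
    obtain ⟨⟨a, ha⟩, ha1⟩ := Subgroup.ne_bot_iff_exists_ne_one.mp hnt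
    have ha1' : a ≠ 1 := fun h => ha1 (Subtype.ext h)
    refine ⟨a, ha, ha1', ?_⟩
    by_contra hcon
    have hle : A ≤ Subgroup.zpowers a := by
      intro b hb
      by_contra hb'
      exact hcon ⟨b, hb, hb'⟩
    have h1 := Subgroup.card_le_of_le hle
    rw [hcard, Nat.card_zpowers, orderOf_eq_prime (hAp a ha) ha1'] at h1
    have : p * p ≤ p := by rw [← sq]; exact h1
    have := hp.one_lt
    nlinarith
  have hfree' : ∀ c ∈ A, c ≠ 1 → ∀ c' ∈ A, c' ∉ Subgroup.zpowers c → ∀ w : W,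
      φ c w = w → φ c' w = w → w = 1 := by
    intro c hc hc1 c' hc' hnot w hw hw'
    apply hfree
    have hmemB : ∀ g, g ∈ A ⊓ (MulAction.stabilizer (MulAut W) w).comap φ ↔
        g ∈ A ∧ φ g w = w := by
      intro g
      rw [Subgroup.mem_inf, Subgroup.mem_comap, MulAction.mem_stabilizer_iff, MulAut.smul_def]
    have hcB : c ∈ A ⊓ (MulAction.stabilizer (MulAut W) w).comap φ := (hmemB c).mpr ⟨hc, hw⟩
    have hc'B : c' ∈ A ⊓ (MulAction.stabilizer (MulAut W) w).comap φ :=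
      (hmemB c').mpr ⟨hc', hw'⟩
    have hzp : Subgroup.zpowers c ≤ A ⊓ (MulAction.stabilizer (MulAut W) w).comap φ :=
      (Subgroup.zpowers_le).mpr hcB
    have hcz : Nat.card (Subgroup.zpowers c) = p := by
      rw [Nat.card_zpowers, orderOf_eq_prime (hAp c hc) hc1]
    have hBA : A ⊓ (MulAction.stabilizer (MulAut W) w).comap φ ≤ A := inf_le_left
    have hdvd : Nat.card ↥(A ⊓ (MulAction.stabilizer (MulAut W) w).comap φ) ∣ p ^ 2 :=
      hcard ▸ Subgroup.card_dvd_of_le hBA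
    obtain ⟨k, hk2, hk⟩ := (Nat.dvd_prime_pow hp).mp hdvd
    have hpB : p ∣ Nat.card ↥(A ⊓ (MulAction.stabilizer (MulAut W) w).comap φ) :=
      hcz ▸ Subgroup.card_dvd_of_le hzp
    have hBeq : A ⊓ (MulAction.stabilizer (MulAut W) w).comap φ = A := by
      interval_cases k
      · exfalso
        rw [hk, pow_zero, Nat.dvd_one] at hpB
        exact hp.ne_one hpB
      · exfalso
        have : Subgroup.zpowers c = A ⊓ (MulAction.stabilizer (MulAut W) w).comap φ :=
          Subgroup.eq_of_le_of_card_ge hzp (by rw [hk, hcz, pow_one])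
        exact hnot (this ▸ hc'B)
      · exact Subgroup.eq_of_le_of_card_ge hBA (by rw [hk, hcard])
    intro a ha
    have haB : a ∈ A ⊓ (MulAction.stabilizer (MulAut W) w).comap φ := by rw [hBeq]; exact ha
    exact ((hmemB a).mp haB).2
  have hzA_pow : ∀ i : ℕ, ∀ a ∈ A, z ^ i * a * (z ^ i)⁻¹ ∈ A := by
    intro i
    induction i with
    | zero => intro a ha; simpa using ha
    | succ i ih =>
      intro a ha
      have : z ^ (i + 1) * a * (z ^ (i + 1))⁻¹ = z * (z ^ i * a * (z ^ i)⁻¹) * z⁻¹ := by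
        rw [pow_succ']; group
      rw [this]
      exact hzA _ (ih a ha)
  have hline' : ∀ c ∈ A, c ≠ 1 → ∀ i : ℕ, 0 < i → i < q →
      z ^ i * c * (z ^ i)⁻¹ ∉ Subgroup.zpowers c := by
    intro c hc hc1 i hi0 hiq hmem
    have hstep : ∀ x ∈ Subgroup.zpowers c, z ^ i * x * (z ^ i)⁻¹ ∈ Subgroup.zpowers c := by
      intro x hx
      obtain ⟨m, rfl⟩ := Subgroup.mem_zpowers_iff.mp hx
      have : z ^ i * c ^ m * (z ^ i)⁻¹ = (z ^ i * c * (z ^ i)⁻¹) ^ m := by
        rw [conj_zpow]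
      rw [this]
      exact Subgroup.zpow_mem _ hmem m
    have hiter : ∀ n : ℕ, ∀ x ∈ Subgroup.zpowers c,
        (z ^ i) ^ n * x * ((z ^ i) ^ n)⁻¹ ∈ Subgroup.zpowers c := by
      intro n
      induction n with
      | zero => intro x hx; simpa using hx
      | succ n ih =>
        intro x hx
        have : (z ^ i) ^ (n + 1) * x * ((z ^ i) ^ (n + 1))⁻¹ =
            z ^ i * ((z ^ i) ^ n * x * ((z ^ i) ^ n)⁻¹) * (z ^ i)⁻¹ := by
          rw [pow_succ']; group
        rw [this]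
        exact hstep _ (ih x hx)
    have hcop : Nat.Coprime i q :=
      ((Nat.Prime.coprime_iff_not_dvd hq).mpr
        (fun h => by have := Nat.le_of_dvd hi0 h; omega)).symm
    obtain ⟨m, -, hm⟩ := Nat.exists_mul_mod_eq_one_of_coprime hcop hq.one_lt
    have hz : (z ^ i) ^ m = z := by
      rw [← pow_mul, pow_eq_pow_mod (i * m) hzq, hm, pow_one]
    have h1 := hiter m c (Subgroup.mem_zpowers c)
    rw [hz, ← mem_powers_iff_mem_zpowers] at h1
    obtain ⟨k, hk⟩ := h1
    exact hline c hc hc1 k hk.symm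
  obtain ⟨a, ha, ha1, b, hb, hba⟩ := hex
  obtain ⟨c, hc, hc1, v', hv'1, hv'⟩ := norm_step1 φ p hp hpW A hAc hAp a b ha ha1 hb hba hW
  refine ⟨norm_Nm φ q z v', ?_, norm_Nm_fixed φ q z hzq v'⟩
  intro hw1
  apply hv'1
  apply norm_pow_eq_one hp hpW
  have h2 : norm_Nm φ p c (norm_Nm φ q z v') = v' ^ p := by
    rw [norm_Nm_apply φ q z v', map_prod, Finset.prod_eq_single 0]
    · simpa using norm_Nm_of_fixed φ p c v' hv'
    · intro i hi hi0
      have hiq : i < q := Finset.mem_range.mp hi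
      have hi0' : 0 < i := Nat.pos_of_ne_zero hi0
      have hc'A : z ^ i * c * (z ^ i)⁻¹ ∈ A := hzA_pow i c hc
      have hfix' : φ (z ^ i * c * (z ^ i)⁻¹) (φ (z ^ i) v') = φ (z ^ i) v' := by
        rw [← MulAut.mul_apply, ← map_mul]
        have : z ^ i * c * (z ^ i)⁻¹ * z ^ i = z ^ i * c := by group
        rw [this, map_mul, MulAut.mul_apply, hv']
      apply hfree' c hc hc1 _ hc'A (hline' c hc hc1 i hi0' hiq)
      · exact norm_Nm_fixed φ p c (hAp c hc) _
      · exact norm_Nm_comm_fixed φ p c _ (hAc _ hc'A _ hc) _ hfix'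
    · intro h; exact absurd (Finset.mem_range.mpr hq.pos) h
  rw [← h2, hw1, map_one]

end Abs

theorem norm_mem_normalizer {G : Type*} [Group G] (z c : G) (k : ℕ) (hk : z * c * z⁻¹ = c ^ k)
    (q : ℕ) (hq : 0 < q) (hzq : z ^ q = 1) :
    z ∈ Subgroup.normalizer ((Subgroup.zpowers c : Subgroup G) : Set G) := by
  have hstep : ∀ x ∈ Subgroup.zpowers c, z * x * z⁻¹ ∈ Subgroup.zpowers c := by
    intro x hx
    obtain ⟨m, rfl⟩ := Subgroup.mem_zpowers_iff.mp hx
    have : z * c ^ m * z⁻¹ = (z * c * z⁻¹) ^ m := by rw [conj_zpow]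
    rw [this, hk]
    exact Subgroup.zpow_mem _ (Subgroup.pow_mem _ (Subgroup.mem_zpowers c) k) m
  have hiter : ∀ n : ℕ, ∀ x ∈ Subgroup.zpowers c,
      z ^ n * x * (z ^ n)⁻¹ ∈ Subgroup.zpowers c := by
    intro n
    induction n with
    | zero => intro x hx; simpa using hx
    | succ n ih =>
      intro x hx
      have : z ^ (n + 1) * x * (z ^ (n + 1))⁻¹ = z * (z ^ n * x * (z ^ n)⁻¹) * z⁻¹ := by
        rw [pow_succ']; group
      rw [this]
      exact hstep _ (ih x hx)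
  rw [Subgroup.mem_normalizer_iff]
  intro x
  constructor
  · exact hstep x
  · intro hx
    have h1 := hiter (q - 1) _ hx
    have hzinv : z ^ (q - 1) = z⁻¹ := by
      apply eq_inv_of_mul_eq_one_left
      rw [← pow_succ, Nat.sub_add_cancel hq, hzq]
    rw [hzinv] at h1
    simpa [mul_assoc] using h1

theorem norm_pure {G : Type*} [Group G] [Finite G] (p : ℕ) (hp : p.Prime) (V A : Subgroup G)
    (z : G) (hVc : ∀ a ∈ V, ∀ b ∈ V, a * b = b * a) (hVne : V ≠ ⊥)
    (hpV : ¬ p ∣ Nat.card V) (hAV : A ≤ Subgroup.normalizer (V : Set G))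
    (hzV : z ∈ Subgroup.normalizer (V : Set G)) (hAc : ∀ a ∈ A, ∀ b ∈ A, a * b = b * a)
    (hAp : ∀ a ∈ A, a ^ p = 1) (hcard : Nat.card A = p ^ 2)
    (hzA : z ∈ Subgroup.normalizer (A : Set G))
    (hcent : V ⊓ Subgroup.centralizer (A : Set G) = ⊥) (hzq : (orderOf z).Prime)
    (hno : ∀ X : Subgroup G, X ≤ A → Nat.card X = p →
      z ∉ Subgroup.normalizer (X : Set G)) :
    ∃ w ∈ V, w ≠ 1 ∧ z * w = w * z := by
  letI instV : CommGroup ↥V :=
    { (inferInstance : Group ↥V) with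
      mul_comm := fun a b => Subtype.ext (hVc a.1 a.2 b.1 b.2) }
  have happ : ∀ (g : ↥(Subgroup.normalizer (V : Set G))) (v : ↥V),
      ((V.normalizerMonoidHom g v : ↥V) : G) = (g : G) * (v : G) * (g : G)⁻¹ := fun g v => rfl
  have key := norm_abs (H := ↥(Subgroup.normalizer (V : Set G))) (W := ↥V)
    V.normalizerMonoidHom p (orderOf z) hp hzq hpV
    (A.subgroupOf (Subgroup.normalizer (V : Set G)))
    (by
      intro a ha b hb
      exact Subtype.ext
        (hAc a.1 (Subgroup.mem_subgroupOf.mp ha) b.1 (Subgroup.mem_subgroupOf.mp hb)))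
    (by
      intro a ha
      exact Subtype.ext (by simpa using hAp a.1 (Subgroup.mem_subgroupOf.mp ha)))
    (by
      rw [← hcard]
      exact Nat.card_congr (Subgroup.subgroupOfEquivOfLe hAV).toEquiv)
    (by
      intro w hw
      have hwc : (w : G) ∈ V ⊓ Subgroup.centralizer (A : Set G) := by
        refine Subgroup.mem_inf.mpr ⟨w.2, ?_⟩
        rw [Subgroup.mem_centralizer_iff]
        intro a ha
        have h1 := hw ⟨a, hAV ha⟩ (Subgroup.mem_subgroupOf.mpr ha)
        have h2 : a * (w : G) * a⁻¹ = (w : G) := by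
          have := congrArg Subtype.val h1
          rwa [happ] at this
        calc a * (w : G) = a * (w : G) * a⁻¹ * a := by group
          _ = (w : G) * a := by rw [h2]
      rw [hcent, Subgroup.mem_bot] at hwc
      exact Subtype.ext hwc)
    ⟨z, hzV⟩
    (Subtype.ext (by simp [pow_orderOf_eq_one]))
    (by
      intro a ha
      rw [Subgroup.mem_subgroupOf] at ha ⊢
      exact (Subgroup.mem_normalizer_iff.mp hzA a.1).mp ha)
    (by
      intro c hc hc1 k hk
      have hcA : (c : G) ∈ A := Subgroup.mem_subgroupOf.mp hc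
      have hc1' : (c : G) ≠ 1 := fun h => hc1 (Subtype.ext h)
      have hk' : z * (c : G) * z⁻¹ = (c : G) ^ k := by
        have := congrArg Subtype.val hk
        simpa using this
      refine hno (Subgroup.zpowers (c : G)) ((Subgroup.zpowers_le).mpr hcA) ?_ ?_
      · haveI : Fact p.Prime := ⟨hp⟩
        rw [Nat.card_zpowers, orderOf_eq_prime (hAp _ hcA) hc1']
      · exact norm_mem_normalizer z (c : G) k hk' (orderOf z) hzq.pos (pow_orderOf_eq_one z))
    (by
      obtain ⟨v, hv⟩ := Subgroup.ne_bot_iff_exists_ne_one.mp hVne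
      exact ⟨v, hv⟩)
  obtain ⟨w, hw1, hw⟩ := key
  refine ⟨w.1, w.2, fun h => hw1 (Subtype.ext h), ?_⟩
  have h2 : z * (w : G) * z⁻¹ = (w : G) := by
    have := congrArg Subtype.val hw
    rwa [happ] at this
  calc z * (w : G) = z * (w : G) * z⁻¹ * z := by group
    _ = (w : G) * z := by rw [h2]


/-- FT-NORM -/
theorem norm : NormStmt.{u} := by
  intro G _ _ hG M E hM hE p _ A hT hσ z hzE hzq hno
  have hp : p.Prime := Fact.out
  have hAM : A ≤ M := hT.hAE.trans hE.1
  obtain ⟨hnil, -, -, hcent, -, -⟩ :=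
    Cfsg.Agent.S1417.result hG M hM p hT.hp A ⟨hAM, hT.hA, hT.hA2⟩
  have h18 := Cfsg.Agent.S1418.result hG M hM E hE p hT.hp A ⟨hT.hAE, hT.hA, hT.hA2⟩
  have hEN : E ≤ Subgroup.normalizer (A : Set G) := h18.1.1
  have hVc : ∀ a ∈ sigmaCore M ⊓ Subgroup.centralizer (sigmaCore M : Set G),
      ∀ b ∈ sigmaCore M ⊓ Subgroup.centralizer (sigmaCore M : Set G), a * b = b * a := by
    intro a ha b hb
    exact Subgroup.mem_centralizer_iff.mp (Subgroup.mem_inf.mp hb).2 a (Subgroup.mem_inf.mp ha).1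
  have hVne : sigmaCore M ⊓ Subgroup.centralizer (sigmaCore M : Set G) ≠ ⊥ := by
    haveI : Nontrivial ↥(sigmaCore M) := (Subgroup.nontrivial_iff_ne_bot _).mpr hσ
    haveI : Group.IsNilpotent ↥(sigmaCore M) := hnil
    have hcen := Group.IsNilpotent.center_ne_bot (G := ↥(sigmaCore M))
    obtain ⟨⟨c, hc⟩, hc1⟩ := Subgroup.ne_bot_iff_exists_ne_one.mp hcen
    have hc1' : (c : G) ≠ 1 := fun h => hc1 (Subtype.ext (Subtype.ext h))
    intro hbot
    apply hc1'
    have hmem : (c : G) ∈ sigmaCore M ⊓ Subgroup.centralizer (sigmaCore M : Set G) := by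
      refine Subgroup.mem_inf.mpr ⟨c.2, ?_⟩
      rw [Subgroup.mem_centralizer_iff]
      intro h hh
      have := Subgroup.mem_center_iff.mp hc ⟨h, hh⟩
      exact congrArg Subtype.val this
    rw [hbot, Subgroup.mem_bot] at hmem
    exact hmem
  have hpV : ¬ p ∣ Nat.card ↥(sigmaCore M ⊓ Subgroup.centralizer (sigmaCore M : Set G)) := by
    intro h
    have h1 : p ∣ Nat.card (sigmaCore M) := h.trans (Subgroup.card_dvd_of_le inf_le_left)
    exact hT.hp.2.1 (Cfsg.Agent.Lib.Helper3.BG12S.mem_sigma_of_dvd_sigmaCore hp h1)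
  have hN := Cfsg.Agent.Lib.Helper3.BG12.sigmaCore_normalizer M
  have hMV : ∀ m ∈ M, ∀ v ∈ sigmaCore M ⊓ Subgroup.centralizer (sigmaCore M : Set G),
      m * v * m⁻¹ ∈ sigmaCore M ⊓ Subgroup.centralizer (sigmaCore M : Set G) := by
    intro m hm v hv
    obtain ⟨hv1, hv2⟩ := Subgroup.mem_inf.mp hv
    refine Subgroup.mem_inf.mpr ⟨(Subgroup.mem_normalizer_iff.mp (hN hm) v).mp hv1, ?_⟩
    rw [Subgroup.mem_centralizer_iff]
    intro s hs
    have hs' : m⁻¹ * s * m ∈ sigmaCore M := by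
      have := (Subgroup.mem_normalizer_iff.mp (hN (M.inv_mem hm)) s).mp hs
      simpa using this
    have h1 := Subgroup.mem_centralizer_iff.mp hv2 _ hs'
    calc s * (m * v * m⁻¹) = m * (m⁻¹ * s * m * v) * m⁻¹ := by group
      _ = m * (v * (m⁻¹ * s * m)) * m⁻¹ := by rw [h1]
      _ = m * v * m⁻¹ * s := by group
  have hMN : M ≤ Subgroup.normalizer
      ((sigmaCore M ⊓ Subgroup.centralizer (sigmaCore M : Set G) : Subgroup G) : Set G) := by
    intro m hm
    rw [Subgroup.mem_normalizer_iff]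
    intro v
    constructor
    · exact fun hv => hMV m hm v hv
    · intro hv
      have := hMV m⁻¹ (M.inv_mem hm) _ hv
      simpa [mul_assoc] using this
  have hcent' : (sigmaCore M ⊓ Subgroup.centralizer (sigmaCore M : Set G)) ⊓
      Subgroup.centralizer (A : Set G) = ⊥ := by
    rw [eq_bot_iff, ← hcent]
    exact inf_le_inf_right _ inf_le_left
  obtain ⟨w, hwV, hw1, hwz⟩ := norm_pure p hp _ A z hVc hVne hpV (hAM.trans hMN)
    (hMN (hE.1 hzE))
    (fun a ha b hb => congrArg Subtype.val (hT.hA.1.is_comm.comm ⟨a, ha⟩ ⟨b, hb⟩))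
    hT.hA.2 hT.hA2 (hEN hzE) hcent' hzq hno
  show sigmaCore M ⊓ Subgroup.centralizer ({z} : Set G) ≠ ⊥
  intro hbot
  apply hw1
  have hmem : w ∈ sigmaCore M ⊓ Subgroup.centralizer ({z} : Set G) := by
    refine Subgroup.mem_inf.mpr ⟨(Subgroup.mem_inf.mp hwV).1, ?_⟩
    rw [Subgroup.mem_centralizer_iff]
    intro h hh
    rw [Set.mem_singleton_iff] at hh
    rw [hh]
    exact hwz
  rw [hbot, Subgroup.mem_bot] at hmem
  exact hmem

end Cfsg.Agent.Lib.Helper12.FT12
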