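import Mathlib

set_option autoImplicit false

namespace Cfsg.Agent.Lib.Helper12

open Subgroup

universe u

variable {G : Type*} [Group G]

/-- A minimal normal subgroup. -/
def IsMinNormal (M : Subgroup G) : Prop :=
  M.Normal ∧ M ≠ ⊥ ∧ ∀ N : Subgroup G, N.Normal → N ≤ M → N ≠ ⊥ → N = M

theorem exists_isMinNormal_le [Finite G] : ∀ (n : ℕ) (M : Subgroup G), Nat.card M = n →
    M.Normal → M ≠ ⊥ → ∃ M₀ : Subgroup G, M₀ ≤ M ∧ IsMinNormal M₀ := by
  intro n
  induction n using Nat.strong_induction_on with
  | _ n ih =>
    intro M hcard hM hne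
    by_cases h : ∀ N : Subgroup G, N.Normal → N ≤ M → N ≠ ⊥ → N = M
    · exact ⟨M, le_rfl, hM, hne, h⟩
    · push Not at h
      obtain ⟨N, hN, hNM, hNne, hNM'⟩ := h
      have hlt : Nat.card N < n := by
        rw [← hcard]
        by_contra hge
        exact hNM' (Subgroup.eq_of_le_of_card_ge hNM (not_lt.mp hge))
      obtain ⟨M₀, h1, h2⟩ := ih _ hlt N rfl hN hNne
      exact ⟨M₀, h1.trans hNM, h2⟩

theorem IsMinNormal.map_equiv {G' : Type*} [Group G'] (e : G ≃* G') {M : Subgroup G}
    (h : IsMinNormal M) : IsMinNormal (M.map e.toMonoidHom) := by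
  obtain ⟨hn, hne, hmin⟩ := h
  refine ⟨hn.map e.toMonoidHom e.surjective, ?_, ?_⟩
  · intro hbot
    exact hne ((Subgroup.map_eq_bot_iff_of_injective M e.injective).mp hbot)
  · intro N hN hNM hNne
    have h1 : N.comap e.toMonoidHom = M := by
      apply hmin _ (hN.comap _)
      · rw [← Subgroup.comap_map_eq_self_of_injective (f := e.toMonoidHom) e.injective M]
        exact comap_mono hNM
      · intro hb
        apply hNne
        rw [← map_comap_eq_self_of_surjective (f := e.toMonoidHom) e.surjective N, hb, Subgroup.map_bot]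
    rw [← h1, map_comap_eq_self_of_surjective (f := e.toMonoidHom) e.surjective]

theorem mem_normalizer_of_subgroupOf {H K : Subgroup G} (hHK : H ≤ K) {k : K}
    (hk : k ∈ normalizer ((H.subgroupOf K : Subgroup K) : Set K)) :
    (k : G) ∈ normalizer (H : Set G) := by
  rw [mem_normalizer_iff] at hk ⊢
  intro y
  constructor
  · intro hy
    have h1 := (hk ⟨y, hHK hy⟩).mp (by rwa [mem_subgroupOf])
    rw [mem_subgroupOf] at h1
    simpa using h1
  · intro hy
    have hyK : y ∈ K := by
      have h1 : (k : G) * y * (k : G)⁻¹ ∈ K := hHK hy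
      have h2 := K.mul_mem (K.mul_mem (K.inv_mem k.2) h1) k.2
      simpa [mul_assoc] using h2
    have h3 := (hk ⟨y, hyK⟩).mpr (by rw [mem_subgroupOf]; simpa using hy)
    rwa [mem_subgroupOf] at h3

theorem card_lt_card_of_lt_top [Finite G] {K : Subgroup G} (hK : K < ⊤) :
    Nat.card K < Nat.card G := by
  apply lt_of_le_of_ne (Subgroup.card_le_card_group K)
  intro h
  exact hK.ne (Subgroup.eq_top_of_card_eq K h)

/-- A minimal normal subgroup of a finite group normalizes every subnormal subgroup. -/
theorem isMinNormal_le_normalizer : ∀ (n : ℕ) (G : Type u) [Group G] [Finite G],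
    Nat.card G = n → ∀ (H M : Subgroup G), H.IsSubnormal → IsMinNormal M →
    M ≤ normalizer (H : Set G) := by
  intro n
  induction n using Nat.strong_induction_on with
  | _ n ih =>
    intro G _ _ hcard H M hH hM
    rcases hH.lt_normal with rfl | ⟨K, hKn, hHK, hKlt⟩
    · intro x _
      rw [mem_normalizer_iff]
      intro h
      simp
    · obtain ⟨hMn, hMne, hMmin⟩ := hM
      by_cases hdisj : M ⊓ K = ⊥
      · intro m hm
        have hc : ∀ y ∈ K, Commute m y := fun y hy =>
          Subgroup.commute_of_normal_of_disjoint M K hMn hKn (disjoint_iff.mpr hdisj) m y hm hy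
        rw [mem_normalizer_iff]
        intro y
        constructor
        · intro hy
          rw [(hc y (hHK hy)).eq, mul_inv_cancel_right]
          exact hy
        · intro hy
          have hyK : y ∈ K := by
            have h1 := hKn.conj_mem _ (hHK hy) m⁻¹
            simpa [mul_assoc] using h1
          rw [(hc y hyK).eq, mul_inv_cancel_right] at hy
          exact hy
      · have hMK : M ≤ K := by
          have h1 := hMmin (M ⊓ K) inferInstance inf_le_left hdisj
          exact inf_eq_left.mp h1
        have hKcard : Nat.card K < n := hcard ▸ card_lt_card_of_lt_top hKlt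
        have hM'n : (M.subgroupOf K).Normal := inferInstance
        have hM'ne : M.subgroupOf K ≠ ⊥ := by
          intro h
          rw [subgroupOf_eq_bot, disjoint_iff] at h
          exact hdisj h
        obtain ⟨M₀, hM₀le, hM₀⟩ := exists_isMinNormal_le _ (M.subgroupOf K) rfl hM'n hM'ne
        have hH' : (H.subgroupOf K).IsSubnormal := hH.subgroupOf
        have hM₀M : M₀.map K.subtype ≤ M := by
          rintro x ⟨y, hy, rfl⟩
          exact hM₀le hy
        have hNle : normalClosure ((M₀.map K.subtype : Subgroup G) : Set G) ≤ M :=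
          normalClosure_le_normal hM₀M
        have hNne : normalClosure ((M₀.map K.subtype : Subgroup G) : Set G) ≠ ⊥ := by
          intro h
          have h1 : M₀.map K.subtype ≤ ⊥ := h ▸ le_normalClosure
          have h2 : M₀ = ⊥ :=
            (Subgroup.map_eq_bot_iff_of_injective M₀ K.subtype_injective).mp (le_bot_iff.mp h1)
          exact hM₀.2.1 h2
        have hNeq := hMmin _ normalClosure_normal hNle hNne
        rw [← hNeq, normalClosure, closure_le]
        intro x hx
        obtain ⟨a, ha, hconj⟩ := Group.mem_conjugatesOfSet_iff.mp hx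
        obtain ⟨g, rfl⟩ := isConj_iff.mp hconj
        obtain ⟨a', ha', rfl⟩ := ha
        have hmin' : IsMinNormal (M₀.map (MulAut.conjNormal g : MulAut K).toMonoidHom) :=
          hM₀.map_equiv _
        have hle := ih _ hKcard K rfl (H.subgroupOf K) _ hH' hmin'
        have hmem : (MulAut.conjNormal g : MulAut K) a' ∈
            normalizer ((H.subgroupOf K : Subgroup K) : Set K) := hle (mem_map_of_mem _ ha')
        have h4 := mem_normalizer_of_subgroupOf hHK hmem
        simpa [MulAut.conjNormal_apply] using h4

theorem le_normalizer_sup {M A B : Subgroup G} (hA : M ≤ normalizer (A : Set G))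
    (hB : M ≤ normalizer (B : Set G)) : M ≤ normalizer ((A ⊔ B : Subgroup G) : Set G) := by
  have key : ∀ m ∈ M, ∀ x ∈ A ⊔ B, m * x * m⁻¹ ∈ A ⊔ B := by
    intro m hm x hx
    have hle : A ⊔ B ≤ (A ⊔ B).comap (MulAut.conj m).toMonoidHom := by
      apply sup_le
      · intro a ha
        rw [mem_comap]
        exact mem_sup_left ((mem_normalizer_iff.mp (hA hm) a).mp ha)
      · intro b hb
        rw [mem_comap]
        exact mem_sup_right ((mem_normalizer_iff.mp (hB hm) b).mp hb)
    exact hle hx
  intro m hm
  rw [mem_normalizer_iff]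
  intro h
  constructor
  · exact key m hm h
  · intro hh
    have h1 := key m⁻¹ (inv_mem hm) _ hh
    simpa [mul_assoc] using h1

/-- Wielandt: the join of two subnormal subgroups of a finite group is subnormal. -/
theorem isSubnormal_sup_aux : ∀ (n : ℕ) (G : Type u) [Group G] [Finite G], Nat.card G = n →
    ∀ A B : Subgroup G, A.IsSubnormal → B.IsSubnormal → (A ⊔ B).IsSubnormal := by
  intro n
  induction n using Nat.strong_induction_on with
  | _ n ih =>
    intro G _ _ hcard A B hA hB
    by_cases hnt : Nontrivial G
    · have htop : (⊤ : Subgroup G) ≠ ⊥ := top_ne_bot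
      obtain ⟨M, -, hM⟩ := exists_isMinNormal_le _ (⊤ : Subgroup G) rfl normal_top htop
      have hMn := hM.1
      have hlt : Nat.card (G ⧸ M) < n := by
        rw [← hcard, Subgroup.card_eq_card_quotient_mul_card_subgroup M]
        have h1 : 0 < Nat.card (G ⧸ M) := Nat.card_pos
        have h2 : 1 < Nat.card M := by
          rw [Subgroup.one_lt_card_iff_ne_bot]
          exact hM.2.1
        nlinarith
      have hπ := QuotientGroup.mk'_surjective M
      have h1 := ih _ hlt (G ⧸ M) rfl _ _ (hA.map hπ) (hB.map hπ)
      rw [← Subgroup.map_sup] at h1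
      have h2 := h1.comap (QuotientGroup.mk' M)
      rw [comap_map_eq, QuotientGroup.ker_mk'] at h2
      have hMA := isMinNormal_le_normalizer _ G rfl A M hA hM
      have hMB := isMinNormal_le_normalizer _ G rfl B M hB hM
      have hMN := le_normalizer_sup hMA hMB
      refine IsSubnormal.step _ _ le_sup_left h2 ?_
      rw [normal_subgroupOf_iff_le_normalizer le_sup_left]
      exact sup_le le_normalizer hMN
    · rw [not_nontrivial_iff_subsingleton] at hnt
      have h1 : A ⊔ B = ⊤ := Subsingleton.elim _ _
      rw [h1]
      exact IsSubnormal.top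

theorem isSubnormal_sup [Finite G] {A B : Subgroup G} (hA : A.IsSubnormal)
    (hB : B.IsSubnormal) : (A ⊔ B).IsSubnormal :=
  isSubnormal_sup_aux _ G rfl A B hA hB

theorem isSubnormal_sSup [Finite G] (S : Set (Subgroup G)) (hS : ∀ U ∈ S, U.IsSubnormal) :
    (sSup S).IsSubnormal := by
  have hfin : S.Finite := Set.toFinite S
  induction S, hfin using Set.Finite.induction_on with
  | empty =>
    rw [sSup_empty]
    exact IsSubnormal.bot
  | @insert a s _ _ ih =>
    rw [sSup_insert]
    exact isSubnormal_sup (hS a (Set.mem_insert a s))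
      (ih (fun U hU => hS U (Set.mem_insert_of_mem a hU)))

end Cfsg.Agent.Lib.Helper12
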