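import Cfsg.Agent.S0502
import Cfsg.Agent.Lib.Helper12.Subnormal

/-!
# Conjugates of subgroups, the commuting graph on Klein four-subgroups, and
# the Sylow-intersection induction behind "k-generated cores control fusion"

* `cj g H` : the conjugate subgroup `g H g⁻¹`, with basic API.
* `FourAdj`, `fourConn_*` : adjacency of the commuting graph on four-subgroups.
* `exists_cj_le_sylow` : every `p`-subgroup is conjugate into a given Sylow `p`-subgroup.
* `exists_sylow_in_subgroup` : Sylow's theorem inside a subgroup `N`, stated in the ambient group.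
* `lt_inf_normalizer_of_lt` : normalizers grow in `p`-groups.
* `exists_cj_le_of_le_normalizer`, `mem_of_cj_le_of_good` : if `Γ` contains `N_G(Q)` for every
  "good" `Q ≤ S` (good = upward closed, conjugation invariant), then `g Q g⁻¹ ≤ S` with `Q ≤ S` good
  forces `g ∈ Γ`.
-/

set_option autoImplicit false
open Cfsg

namespace Cfsg.Agent.Lib.Helper12

variable {G : Type*} [Group G]

/-- The conjugate subgroup `g H g⁻¹`. -/
def cj (g : G) (H : Subgroup G) : Subgroup G := H.map (MulAut.conj g).toMonoidHom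

theorem mem_cj {g : G} {H : Subgroup G} {x : G} : x ∈ cj g H ↔ g⁻¹ * x * g ∈ H := by
  unfold cj
  constructor
  · rintro ⟨h, hh, rfl⟩
    have : g⁻¹ * ((MulAut.conj g).toMonoidHom h) * g = h := by
      simp [mul_assoc]
    rw [this]
    exact hh
  · intro hx
    refine ⟨g⁻¹ * x * g, hx, ?_⟩
    simp [mul_assoc]

theorem conj_mem_cj {g : G} {H : Subgroup G} {x : G} (hx : x ∈ H) : g * x * g⁻¹ ∈ cj g H := by
  rw [mem_cj]
  have : g⁻¹ * (g * x * g⁻¹) * g = x := by group
  rw [this]
  exact hx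

theorem cj_one (H : Subgroup G) : cj 1 H = H := by
  ext x
  simp [mem_cj]

theorem cj_mul (g h : G) (H : Subgroup G) : cj (g * h) H = cj g (cj h H) := by
  ext x
  simp [mem_cj, mul_assoc]

theorem cj_mono {g : G} {H K : Subgroup G} (h : H ≤ K) : cj g H ≤ cj g K :=
  Subgroup.map_mono h

theorem cj_inv_cj (g : G) (H : Subgroup G) : cj g⁻¹ (cj g H) = H := by
  rw [← cj_mul, inv_mul_cancel, cj_one]

theorem cj_cj_inv (g : G) (H : Subgroup G) : cj g (cj g⁻¹ H) = H := by
  rw [← cj_mul, mul_inv_cancel, cj_one]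

theorem card_cj (g : G) (H : Subgroup G) : Nat.card (cj g H) = Nat.card H :=
  Subgroup.card_map_of_injective (MulAut.conj g).injective

theorem cj_eq_self_of_mem_normalizer {g : G} {H : Subgroup G}
    (hg : g ∈ Subgroup.normalizer (H : Set G)) : cj g H = H := by
  ext x
  rw [mem_cj]
  have h1 := (Subgroup.mem_normalizer_iff.mp hg) (g⁻¹ * x * g)
  have h2 : g * (g⁻¹ * x * g) * g⁻¹ = x := by group
  rw [h2] at h1
  exact h1

theorem mem_normalizer_of_cj_le [Finite G] {g : G} {H : Subgroup G} (h : cj g H ≤ H) :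
    g ∈ Subgroup.normalizer (H : Set G) := by
  have heq : cj g H = H := Subgroup.eq_of_le_of_card_ge h (card_cj g H).ge
  rw [Subgroup.mem_normalizer_iff]
  intro x
  constructor
  · intro hx
    rw [← heq]
    exact conj_mem_cj hx
  · intro hx
    rw [← heq, mem_cj] at hx
    have h2 : g⁻¹ * (g * x * g⁻¹) * g = x := by group
    rw [h2] at hx
    exact hx

theorem isPGroup_cj {p : ℕ} {g : G} {H : Subgroup G} (h : IsPGroup p H) : IsPGroup p (cj g H) :=
  h.map _

theorem cj_le_normalizer {g : G} {D Q : Subgroup G}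
    (h : D ≤ Subgroup.normalizer (Q : Set G)) :
    cj g D ≤ Subgroup.normalizer ((cj g Q : Subgroup G) : Set G) := by
  intro x hx
  rw [mem_cj] at hx
  have hn := Subgroup.mem_normalizer_iff.mp (h hx)
  rw [Subgroup.mem_normalizer_iff]
  intro y
  rw [mem_cj, mem_cj, hn (g⁻¹ * y * g)]
  have h2 : g⁻¹ * x * g * (g⁻¹ * y * g) * (g⁻¹ * x * g)⁻¹ = g⁻¹ * (x * y * x⁻¹) * g := by group
  rw [h2]

theorem card_lt_card_of_lt' [Finite G] {H K : Subgroup G} (h : H < K) :
    Nat.card H < Nat.card K := by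
  by_contra hcon
  exact h.ne (Subgroup.eq_of_le_of_card_ge h.le (not_lt.mp hcon))

/-! ### Klein four-groups -/

theorem isKleinFour_of_mulEquiv {A B : Type*} [Group A] [Group B] (e : A ≃* B)
    (h : IsKleinFour A) : IsKleinFour B :=
  ⟨by rw [← Nat.card_congr e.toEquiv]; exact h.card_four,
   by rw [← Monoid.exponent_eq_of_mulEquiv e]; exact h.exponent_two⟩

theorem isKleinFour_map_of_injective {H : Type*} [Group H] (f : G →* H)
    (hf : Function.Injective f) {U : Subgroup G} (h : IsKleinFour U) : IsKleinFour (U.map f) :=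
  isKleinFour_of_mulEquiv (U.equivMapOfInjective f hf) h

theorem isKleinFour_cj {g : G} {U : Subgroup G} (h : IsKleinFour U) : IsKleinFour (cj g U) :=
  isKleinFour_map_of_injective _ (MulAut.conj g).injective h

theorem isPGroup_of_isKleinFour {U : Subgroup G} (h : IsKleinFour U) : IsPGroup 2 U :=
  IsPGroup.of_card (n := 2) h.card_four

theorem sq_eq_one_of_isKleinFour {U : Subgroup G} (h : IsKleinFour U) {u : G} (hu : u ∈ U) :
    u ^ 2 = 1 := by
  have h1 := Monoid.pow_exponent_eq_one (⟨u, hu⟩ : U)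
  rw [h.exponent_two] at h1
  exact congrArg (fun z : U => (z : G)) h1

theorem mul_comm_of_isKleinFour {U : Subgroup G} (h : IsKleinFour U) {u v : G} (hu : u ∈ U)
    (hv : v ∈ U) : u * v = v * u := by
  have h1 := mul_comm_of_exponent_two h.exponent_two (⟨u, hu⟩ : U) ⟨v, hv⟩
  exact congrArg (fun z : U => (z : G)) h1

/-- Having `2`-rank at least two means containing a four-group. -/
theorem not_pRankLE_two_one_iff [Finite G] (Q : Subgroup G) :
    ¬ PRankLE 2 1 Q ↔ ∃ U : Subgroup G, U ≤ Q ∧ IsKleinFour U := by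
  constructor
  · intro h
    unfold PRankLE at h
    push Not at h
    obtain ⟨A, -, hA2, hAcard⟩ := h
    obtain ⟨W, -, hW⟩ := Cfsg.Agent.S0502.exists_kleinFour_le A hA2 (by simpa using hAcard)
    refine ⟨W.map Q.subtype, ?_, isKleinFour_map_of_injective _ (Subgroup.subtype_injective Q) hW⟩
    rintro x ⟨w, -, rfl⟩
    exact w.2
  · rintro ⟨U, hUQ, hU⟩ hle
    have hU' : IsKleinFour (U.subgroupOf Q) :=
      isKleinFour_of_mulEquiv (Subgroup.subgroupOfEquivOfLe hUQ).symm hU
    have h1 := hle (U.subgroupOf Q) ⟨⟨mul_comm_of_exponent_two hU'.exponent_two⟩⟩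
      (fun a ha => sq_eq_one_of_isKleinFour hU' ha)
    rw [hU'.card_four] at h1
    omega

theorem exists_isKleinFour_of_not_pRankLE [Finite G] (h : ¬ PRankLE 2 1 G) :
    ∃ U : Subgroup G, IsKleinFour U := by
  unfold PRankLE at h
  push Not at h
  obtain ⟨A, -, hA2, hAcard⟩ := h
  obtain ⟨W, -, hW⟩ := Cfsg.Agent.S0502.exists_kleinFour_le A hA2 (by simpa using hAcard)
  exact ⟨W, hW⟩

/-! ### The commuting graph on four-subgroups -/

/-- Adjacency in the commuting graph on Klein four-subgroups. -/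
def FourAdj (A B : Subgroup G) : Prop :=
  IsKleinFour A ∧ IsKleinFour B ∧ ∀ a ∈ A, ∀ b ∈ B, a * b = b * a

theorem fourAdj_symm {A B : Subgroup G} (h : FourAdj A B) : FourAdj B A :=
  ⟨h.2.1, h.1, fun b hb a ha => (h.2.2 a ha b hb).symm⟩

theorem fourConn_symm {A B : Subgroup G} (h : Relation.ReflTransGen FourAdj A B) :
    Relation.ReflTransGen FourAdj B A := by
  induction h with
  | refl => exact Relation.ReflTransGen.refl
  | tail _ hbc ih => exact Relation.ReflTransGen.head (fourAdj_symm hbc) ih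

theorem fourAdj_cj (g : G) {A B : Subgroup G} (h : FourAdj A B) :
    FourAdj (cj g A) (cj g B) := by
  refine ⟨isKleinFour_cj h.1, isKleinFour_cj h.2.1, ?_⟩
  intro a ha b hb
  rw [mem_cj] at ha hb
  have h1 := h.2.2 _ ha _ hb
  calc a * b = g * ((g⁻¹ * a * g) * (g⁻¹ * b * g)) * g⁻¹ := by group
    _ = g * ((g⁻¹ * b * g) * (g⁻¹ * a * g)) * g⁻¹ := by rw [h1]
    _ = b * a := by group

theorem fourConn_cj (g : G) {A B : Subgroup G} (h : Relation.ReflTransGen FourAdj A B) :
    Relation.ReflTransGen FourAdj (cj g A) (cj g B) :=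
  Relation.ReflTransGen.lift (cj g) (fun _ _ h => fourAdj_cj g h) _ _ h

/-- Four-subgroups of a four-connected subgroup `S` are connected in the ambient group. -/
theorem fourConn_of_le {S : Subgroup G} (hS : IsFourConnected S) {V V' : Subgroup G}
    (hV : V ≤ S) (hV' : V' ≤ S) (h : IsKleinFour V) (h' : IsKleinFour V') :
    Relation.ReflTransGen FourAdj V V' := by
  have h1 : IsKleinFour (V.subgroupOf S) :=
    isKleinFour_of_mulEquiv (Subgroup.subgroupOfEquivOfLe hV).symm h
  have h2 : IsKleinFour (V'.subgroupOf S) :=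
    isKleinFour_of_mulEquiv (Subgroup.subgroupOfEquivOfLe hV').symm h'
  have h3 := hS (V.subgroupOf S) (V'.subgroupOf S) h1 h2
  have hlift : ∀ A B : Subgroup S,
      (IsKleinFour A ∧ IsKleinFour B ∧ ∀ a ∈ A, ∀ b ∈ B, a * b = b * a) →
      FourAdj (A.map S.subtype) (B.map S.subtype) := by
    intro A B hAB
    refine ⟨isKleinFour_map_of_injective _ (Subgroup.subtype_injective S) hAB.1,
      isKleinFour_map_of_injective _ (Subgroup.subtype_injective S) hAB.2.1, ?_⟩
    rintro a ⟨a', ha', rfl⟩ b ⟨b', hb', rfl⟩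
    have := hAB.2.2 a' ha' b' hb'
    exact congrArg (fun z : S => (z : G)) this
  have h4 := Relation.ReflTransGen.lift (p := FourAdj (G := G))
    (fun A : Subgroup S => A.map S.subtype) hlift _ _ h3
  have h5 : Relation.ReflTransGen FourAdj ((V.subgroupOf S).map S.subtype)
      ((V'.subgroupOf S).map S.subtype) := h4
  rw [Subgroup.map_subgroupOf_eq_of_le hV, Subgroup.map_subgroupOf_eq_of_le hV'] at h5
  exact h5

/-- The stabilizer of the connected component of `U` in the commuting graph on four-subgroups. -/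
def fourStab (U : Subgroup G) : Subgroup G where
  carrier := {g | Relation.ReflTransGen FourAdj U (cj g U)}
  one_mem' := by
    show Relation.ReflTransGen FourAdj U (cj 1 U)
    rw [cj_one]
  mul_mem' := by
    intro a b ha hb
    show Relation.ReflTransGen FourAdj U (cj (a * b) U)
    rw [cj_mul]
    exact Relation.ReflTransGen.trans ha (fourConn_cj a hb)
  inv_mem' := by
    intro a ha
    show Relation.ReflTransGen FourAdj U (cj a⁻¹ U)
    have h1 := fourConn_cj a⁻¹ ha
    rw [cj_inv_cj] at h1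
    exact fourConn_symm h1

theorem mem_fourStab {U : Subgroup G} {g : G} :
    g ∈ fourStab U ↔ Relation.ReflTransGen FourAdj U (cj g U) := Iff.rfl

/-! ### Sylow theory with conjugates -/

/-- Every `p`-subgroup is conjugate into a given Sylow `p`-subgroup. -/
theorem exists_cj_le_sylow [Finite G] {p : ℕ} [Fact p.Prime] (S : Sylow p G) {D : Subgroup G}
    (hD : IsPGroup p D) : ∃ g : G, cj g D ≤ S := by
  obtain ⟨Q, hQ⟩ := hD.exists_le_sylow
  obtain ⟨g, hg⟩ := MulAction.exists_smul_eq G Q S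
  refine ⟨g, ?_⟩
  intro x hx
  rw [mem_cj] at hx
  have h1 : g⁻¹ * x * g ∈ (Q : Subgroup G) := hQ hx
  rw [← hg, Sylow.coe_subgroup_smul]
  have h2 := Subgroup.smul_mem_pointwise_smul _ (MulAut.conj g) (Q : Subgroup G) h1
  have h3 : MulAut.conj g • (g⁻¹ * x * g) = x := by
    rw [MulAut.smul_def, MulAut.conj_apply]
    group
  rw [h3] at h2
  exact h2

/-- Sylow's theorems inside a subgroup `N`, stated in the ambient group: a `p`-subgroup `D ≤ N` is
`N`-conjugate into a `p`-subgroup `T ≤ N` containing a prescribed `p`-subgroup `P₀ ≤ N`. -/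
theorem exists_sylow_in_subgroup [Finite G] {p : ℕ} [Fact p.Prime] (N P₀ D : Subgroup G)
    (hP₀N : P₀ ≤ N) (hDN : D ≤ N) (hP₀ : IsPGroup p P₀) (hD : IsPGroup p D) :
    ∃ h ∈ N, ∃ T : Subgroup G, IsPGroup p T ∧ P₀ ≤ T ∧ cj h D ≤ T := by
  have h1 : IsPGroup p (P₀.subgroupOf N) := hP₀.comap_subtype
  have h2 : IsPGroup p (D.subgroupOf N) := hD.comap_subtype
  obtain ⟨T', hT'⟩ := h1.exists_le_sylow
  obtain ⟨h, hh⟩ := exists_cj_le_sylow T' h2
  refine ⟨h, h.2, (T' : Subgroup N).map N.subtype, T'.isPGroup'.map _, ?_, ?_⟩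
  · intro x hx
    exact ⟨⟨x, hP₀N hx⟩, hT' (by rw [Subgroup.mem_subgroupOf]; exact hx), rfl⟩
  · intro x hx
    rw [mem_cj] at hx
    have hxN : x ∈ N := by
      have h3 : (h : G)⁻¹ * x * h ∈ N := hDN hx
      have h4 : x = (h : G) * ((h : G)⁻¹ * x * h) * (h : G)⁻¹ := by group
      rw [h4]
      exact N.mul_mem (N.mul_mem h.2 h3) (N.inv_mem h.2)
    refine ⟨⟨x, hxN⟩, hh ?_, rfl⟩
    rw [mem_cj, Subgroup.mem_subgroupOf]
    exact hx

/-- Normalizers grow in `p`-groups. -/
theorem lt_inf_normalizer_of_lt [Finite G] {p : ℕ} [Fact p.Prime] {S Q : Subgroup G}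
    (hS : IsPGroup p S) (hQS : Q < S) : Q < S ⊓ Subgroup.normalizer (Q : Set G) := by
  have : Group.IsNilpotent S := hS.isNilpotent
  have hnc : NormalizerCondition S := Group.normalizerCondition_of_isNilpotent
  have hlt : Q.subgroupOf S < ⊤ := by
    rw [lt_top_iff_ne_top]
    intro h
    rw [Subgroup.subgroupOf_eq_top] at h
    exact hQS.not_ge h
  obtain ⟨x, hxn, hxQ⟩ := SetLike.exists_of_lt (hnc _ hlt)
  refine lt_of_le_of_ne (le_inf hQS.le Subgroup.le_normalizer) ?_
  intro heq
  apply hxQ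
  rw [Subgroup.mem_subgroupOf, heq]
  exact ⟨x.2, mem_normalizer_of_subgroupOf hQS.le hxn⟩

/-- If `Γ` contains `N_G(Q)` and every `g` conjugating `N_S(Q)` into `S`, then every `p`-subgroup of
`N_G(Q)` is `Γ`-conjugate into `S`. -/
theorem exists_cj_le_of_le_normalizer [Finite G] {p : ℕ} [Fact p.Prime] (S : Sylow p G)
    (Γ Q : Subgroup G)
    (hN : Subgroup.normalizer (Q : Set G) ≤ Γ)
    (hJ : ∀ g : G, cj g ((S : Subgroup G) ⊓ Subgroup.normalizer (Q : Set G)) ≤ S → g ∈ Γ)
    (D : Subgroup G) (hDN : D ≤ Subgroup.normalizer (Q : Set G)) (hD : IsPGroup p D) :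
    ∃ y ∈ Γ, cj y D ≤ S := by
  obtain ⟨h, hhN, T, hT, hP₀T, hDT⟩ := exists_sylow_in_subgroup (p := p)
    (Subgroup.normalizer (Q : Set G)) ((S : Subgroup G) ⊓ Subgroup.normalizer (Q : Set G)) D
    inf_le_right hDN (S.isPGroup'.to_le inf_le_left) hD
  obtain ⟨k, hk⟩ := exists_cj_le_sylow S hT
  refine ⟨k * h, Γ.mul_mem (hJ k ((cj_mono hP₀T).trans hk)) (hN hhN), ?_⟩
  rw [cj_mul]
  exact (cj_mono hDT).trans hk

/-- Sylow-intersection induction: if `Γ` contains `N_G(Q)` for every good `Q ≤ S`, where "good" is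
upward closed and conjugation invariant, then for good `Q ≤ S`, `g Q g⁻¹ ≤ S` implies `g ∈ Γ`. -/
theorem mem_of_cj_le_of_good [Finite G] {p : ℕ} [Fact p.Prime] (S : Sylow p G) (Γ : Subgroup G)
    (good : Subgroup G → Prop)
    (hmono : ∀ Q Q' : Subgroup G, Q ≤ Q' → good Q → good Q')
    (hconj : ∀ (g : G) (Q : Subgroup G), good Q → good (cj g Q))
    (hΓ : ∀ Q : Subgroup G, Q ≤ S → good Q → Subgroup.normalizer (Q : Set G) ≤ Γ) :
    ∀ (n : ℕ) (Q : Subgroup G), Q ≤ S → good Q → Nat.card S - Nat.card Q = n →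
      ∀ g : G, cj g Q ≤ S → g ∈ Γ := by
  intro n
  induction n using Nat.strong_induction_on with
  | _ n ih =>
    intro Q hQS hQ hn g hg
    by_cases hQeq : Q = S
    · rw [hQeq] at hg
      exact hΓ S le_rfl (hQeq ▸ hQ) (mem_normalizer_of_cj_le hg)
    · have hlt : Q < S := lt_of_le_of_ne hQS hQeq
      have hcardlt := card_lt_card_of_lt' hlt
      have hJ' : ∀ Q₁ : Subgroup G, Q₁ ≤ S → good Q₁ → Nat.card Q₁ = Nat.card Q →
          ∀ g' : G, cj g' ((S : Subgroup G) ⊓ Subgroup.normalizer (Q₁ : Set G)) ≤ S → g' ∈ Γ := by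
        intro Q₁ hQ₁S hQ₁ hcard g' hg'
        have hQ₁lt : Q₁ < S := by
          refine lt_of_le_of_ne hQ₁S ?_
          intro h
          rw [h] at hcard
          omega
        have hlt' := lt_inf_normalizer_of_lt S.isPGroup' hQ₁lt
        have hc1 := card_lt_card_of_lt' hlt'
        have hc2 : Nat.card ((S : Subgroup G) ⊓ Subgroup.normalizer (Q₁ : Set G) : Subgroup G) ≤
            Nat.card (S : Subgroup G) := Subgroup.card_le_of_le inf_le_left
        exact ih (Nat.card S - Nat.card ((S : Subgroup G) ⊓ Subgroup.normalizer (Q₁ : Set G) :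
          Subgroup G)) (by omega) _ inf_le_left (hmono _ _ hlt'.le hQ₁) rfl g' hg'
      obtain ⟨y, hyΓ, hy⟩ := exists_cj_le_of_le_normalizer S Γ (cj g Q)
        (hΓ _ hg (hconj g Q hQ)) (hJ' (cj g Q) hg (hconj g Q hQ) (card_cj g Q))
        (cj g ((S : Subgroup G) ⊓ Subgroup.normalizer (Q : Set G)))
        (cj_le_normalizer inf_le_right) (isPGroup_cj (S.isPGroup'.to_le inf_le_left))
      have h1 : y * g ∈ Γ := hJ' Q hQS hQ rfl (y * g) (by rw [cj_mul]; exact hy)
      have h2 : g = y⁻¹ * (y * g) := by group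
      rw [h2]
      exact Γ.mul_mem (Γ.inv_mem hyΓ) h1

end Cfsg.Agent.Lib.Helper12
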