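import Mathlib
import Cfsg.Agent.Lib.Helper22.HPDefs
import Cfsg.Agent.Lib.Helper22.HPDefs2
import Cfsg.Agent.Lib.Helper31.HPETA
import Cfsg.Agent.Lib.Helper83.Linear

/-!
# S4504, piece HP-STAR-COUNT-ODD (helper12 for helper83): the counting piece for `e` odd
-/

set_option autoImplicit false
set_option linter.style.haveILetI false

namespace Cfsg.Agent.Lib.Helper12.HPT

open Cfsg Cfsg.Agent.Lib.Helper22.BFD Cfsg.Agent.Lib.Helper22.HPD
open scoped ComplexConjugate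

universe u

theorem hpco_reindex (p : ℕ) [Fact p.Prime] (s : ZMod p) (hs : s ≠ 0) (F : ZMod p → ℝ)
    [DecidablePred (fun t : ZMod p => t ≠ 0)] :
    ∑ t ∈ Finset.univ.filter (fun t : ZMod p => t ≠ 0), F (s * t) =
      ∑ t ∈ Finset.univ.filter (fun t : ZMod p => t ≠ 0), F t := by
  rw [Finset.sum_filter, Finset.sum_filter]
  have h1 : ∀ t : ZMod p, (if t ≠ 0 then F (s * t) else 0) =
      (fun x : ZMod p => if x ≠ 0 then F x else 0) (s * t) := by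
    intro t
    by_cases ht : t = 0
    · simp [ht]
    · simp [ht, hs]
  rw [Finset.sum_congr rfl (fun t _ => h1 t)]
  exact Equiv.sum_comp (Equiv.mulLeft₀ s hs) (fun x : ZMod p => if x ≠ 0 then F x else 0)

theorem hpco_card_ne_zero (p : ℕ) [Fact p.Prime] [DecidablePred (fun t : ZMod p => t ≠ 0)] :
    (Finset.univ.filter (fun t : ZMod p => t ≠ 0)).card = p - 1 := by
  classical
  have h : Finset.univ.filter (fun t : ZMod p => t ≠ 0) = Finset.univ.erase 0 := by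
    ext t
    simp
  rw [h, Finset.card_erase_of_mem (Finset.mem_univ _), Finset.card_univ, ZMod.card]

theorem hpco_eta_sq_sum (p : ℕ) [Fact p.Prime] (e : ℕ) (hdeg : 2 * e + 1 = p) (ζ : ℂ)
    (hζ : IsPrimitiveRoot ζ p) [DecidablePred (fun t : ZMod p => t ≠ 0)] :
    ∑ t ∈ Finset.univ.filter (fun t : ZMod p => t ≠ 0), ‖eta p ζ t‖ ^ 2 =
      (e : ℝ) * ((e : ℝ) + 1) := by
  classical
  have hp2 : p ≠ 2 := by omega
  obtain ⟨-, heta0, -, -, hsq, -⟩ := Cfsg.Agent.Lib.Helper31.HPT.eta_facts p hp2 ζ hζ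
  have he : (p - 1) / 2 = e := by omega
  rw [he] at heta0 hsq
  have h1 : ∑ t : ZMod p, ‖eta p ζ t‖ ^ 2 = (p : ℝ) * e := by
    have h2 : ((∑ t : ZMod p, ‖eta p ζ t‖ ^ 2 : ℝ) : ℂ) = (((p : ℝ) * e : ℝ) : ℂ) := by
      push_cast
      rw [show ((p : ℂ) * (e : ℂ)) = ((p * e : ℕ) : ℂ) by push_cast; rfl, ← hsq]
      refine Finset.sum_congr rfl fun t _ => ?_
      rw [Complex.mul_conj, Complex.normSq_eq_norm_sq]
      push_cast
      rfl
    exact Complex.ofReal_injective h2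
  have h4 : ∑ t : ZMod p, ‖eta p ζ t‖ ^ 2 = ‖eta p ζ 0‖ ^ 2 +
      ∑ t ∈ Finset.univ.filter (fun t : ZMod p => t ≠ 0), ‖eta p ζ t‖ ^ 2 := by
    rw [Fintype.sum_eq_add_sum_compl (0 : ZMod p)]
    congr 1
    refine Finset.sum_congr ?_ (fun _ _ => rfl)
    ext t
    simp
  rw [heta0, Complex.norm_natCast] at h4
  have hp : (p : ℝ) = 2 * (e : ℝ) + 1 := by
    rw [← hdeg]
    push_cast
    ring
  rw [hp] at h1
  linarith

open Classical in
theorem hp_count_odd {G : Type u} [Group G] [Fintype G] [Fintype (IrrCharacter G)]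
    (p : ℕ) [Fact p.Prime] (hdiv : p ∣ Nat.card G) (e : ℕ) (he2 : 2 ≤ e) (hodd : Odd e)
    (hdeg : 2 * e + 1 = p)
    (z : G) (ζ : ℂ)
    (hζ : IsPrimitiveRoot ζ p) (k : ℕ) (hk : GalExp p G k) (m₁ m₂ : IrrCharacter G → ℕ)
    (h11 : ∀ φ : IrrCharacter G, φ.1 = (fun _ => 1) → m₁ φ = 1)
    (hd1 : ∑ φ : IrrCharacter G, m₁ φ * charDegree φ.1 = e ^ 2)
    (hd2 : ∑ φ : IrrCharacter G, m₂ φ * charDegree φ.1 = e ^ 2)
    (hn : ∑ φ : IrrCharacter G, (m₂ φ) ^ 2 ≤ ∑ φ : IrrCharacter G, (m₁ φ) ^ 2)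
    (hl1 : ∀ φ : IrrCharacter G, φ.1 ≠ (fun _ => 1) → m₁ φ ≠ 0 →
      TrivZ φ.1 ∧ ((IsEp p z φ.1 ∧ charDegree φ.1 = p + 1) ∨
        (IsXp p ζ z k φ.1 ∧ charDegree φ.1 = e + 1)))
    (hl2 : ∀ φ : IrrCharacter G, m₂ φ ≠ 0 →
      TrivZ φ.1 ∧ ((IsEm p z φ.1 ∧ charDegree φ.1 = p - 1) ∨
        (IsXm p ζ z k φ.1 ∧ charDegree φ.1 = e)))
    (hmu : ∀ φ : IrrCharacter G, φ.1 ≠ (fun _ => 1) → m₁ φ ≠ 0 → m₁ φ = 1)
    (hbud : ∑ φ ∈ Finset.univ.filter (fun φ : IrrCharacter G => TrivZ φ.1),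
      ∑ t ∈ Finset.univ.filter (fun t : ZMod p => t ≠ 0), ‖φ.1 (z ^ t.val)‖ ^ 2 =
        (p : ℝ) * ((p : ℝ) - 1))
    (huq : ∀ φ ψ : IrrCharacter G, TrivZ φ.1 → TrivZ ψ.1 → φ.1 z ≠ φ.1 (z ^ k) →
      ψ.1 z ≠ ψ.1 (z ^ k) → ψ = φ ∨ ψ = gc hk φ)
    (hgc1 : ∀ φ : IrrCharacter G, gc hk (gc hk φ) = φ)
    (hgc2 : ∀ (φ : IrrCharacter G) (t : ZMod p),
      (gc hk φ).1 (z ^ t.val) = φ.1 (z ^ ((k : ZMod p) * t).val))
    (hgc3 : ∀ φ : IrrCharacter G, TrivZ φ.1 → TrivZ (gc hk φ).1)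
    (hz : orderOf z = p) (hdg : ∀ φ : IrrCharacter G, φ.1 1 = (charDegree φ.1 : ℂ)) :
    ∃ φ₀ : IrrCharacter G, TrivZ φ₀.1 ∧ gc hk φ₀ ≠ φ₀ ∧
      (∀ φ : IrrCharacter G, TrivZ φ.1 → φ ≠ φ₀ → φ ≠ gc hk φ₀ →
        φ.1 z * (φ.1 z + φ.1 (z ^ k)) / φ.1 1 =
          (if φ.1 = (fun _ => 1) then 2 - 1 / ((e : ℂ) + 1) else 0) +
            (m₁ φ : ℂ) / ((e : ℂ) + 1) + (m₂ φ : ℂ) / (e : ℂ)) ∧
      φ₀.1 z * (φ₀.1 z + φ₀.1 (z ^ k)) / φ₀.1 1 +
          (gc hk φ₀).1 z * ((gc hk φ₀).1 z + (gc hk φ₀).1 (z ^ k)) / (gc hk φ₀).1 1 =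
        ((m₁ φ₀ : ℂ) + (m₁ (gc hk φ₀) : ℂ)) / ((e : ℂ) + 1) +
          ((m₂ φ₀ : ℂ) + (m₂ (gc hk φ₀) : ℂ)) / (e : ℂ) := by
  have hpr : p.Prime := Fact.out
  have hp2 : p ≠ 2 := by omega
  obtain ⟨-, -, -, hinv, -, hη⟩ := Cfsg.Agent.Lib.Helper31.HPT.eta_facts p hp2 ζ hζ
  have hs0 : (k : ZMod p) ≠ 0 := by
    intro h0
    have h2 : p ∣ k := (ZMod.natCast_eq_zero_iff k p).mp h0
    have h3 : p ∣ Nat.gcd k (Nat.card G) := Nat.dvd_gcd h2 hdiv
    rw [hk.cop] at h3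
    exact hpr.one_lt.ne' (Nat.dvd_one.mp h3)
  have hss : (k : ZMod p) * (k : ZMod p) ∈ Sq p := by
    unfold Sq
    rw [Finset.mem_filter]
    exact ⟨Finset.mem_univ _, mul_self_ne_zero.mpr hs0, ⟨(k : ZMod p), rfl⟩⟩
  have hss0 : (k : ZMod p) * (k : ZMod p) ≠ 0 := mul_self_ne_zero.mpr hs0
  obtain ⟨-, hηs⟩ := hη (k : ZMod p) hs0 hk.nsq
  have hz1 : z ^ (1 : ZMod p).val = z := by rw [ZMod.val_one, pow_one]
  have hzk : z ^ k = z ^ (k : ZMod p).val := by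
    have h := pow_mod_orderOf z k
    rw [hz] at h
    rw [ZMod.val_natCast]
    exact h.symm
  have h1s := hηs 1 one_ne_zero
  rw [mul_one] at h1s
  obtain ⟨hsum, hnorm⟩ := h1s
  have hne : eta p ζ 1 ≠ eta p ζ (k : ZMod p) := by
    intro h
    rw [h, sub_self, norm_zero] at hnorm
    have hp0 : (p : ℝ) ≠ 0 := Nat.cast_ne_zero.mpr hpr.ne_zero
    apply hp0
    rw [← hnorm]
    norm_num
  have hess : eta p ζ ((k : ZMod p) * (k : ZMod p)) = eta p ζ 1 := by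
    have h := hinv _ hss 1
    rwa [mul_one] at h
  have hesss : eta p ζ ((k : ZMod p) * ((k : ZMod p) * (k : ZMod p))) = eta p ζ (k : ZMod p) := by
    have h := hinv _ hss (k : ZMod p)
    rwa [mul_comm] at h
  -- values of the exceptional characters at `z` and `z ^ k`
  have hXm : ∀ φ : IrrCharacter G, IsXm p ζ z k φ.1 →
      (φ.1 z = eta p ζ 1 ∧ φ.1 (z ^ k) = eta p ζ (k : ZMod p)) ∨
      (φ.1 z = eta p ζ (k : ZMod p) ∧ φ.1 (z ^ k) = eta p ζ 1) := by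
    intro φ h
    rcases h with h | h
    · left
      constructor
      · have h1 := h 1 one_ne_zero
        rwa [hz1] at h1
      · have h1 := h (k : ZMod p) hs0
        rwa [← hzk] at h1
    · right
      constructor
      · have h1 := h 1 one_ne_zero
        rwa [hz1, mul_one] at h1
      · have h1 := h (k : ZMod p) hs0
        rwa [← hzk, hess] at h1
  have hXp : ∀ φ : IrrCharacter G, IsXp p ζ z k φ.1 →
      (φ.1 z = -eta p ζ 1 ∧ φ.1 (z ^ k) = -eta p ζ (k : ZMod p)) ∨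
      (φ.1 z = -eta p ζ (k : ZMod p) ∧ φ.1 (z ^ k) = -eta p ζ 1) := by
    intro φ h
    rcases h with h | h
    · left
      constructor
      · have h1 := h 1 one_ne_zero
        rwa [hz1] at h1
      · have h1 := h (k : ZMod p) hs0
        rwa [← hzk] at h1
    · right
      constructor
      · have h1 := h 1 one_ne_zero
        rwa [hz1, mul_one] at h1
      · have h1 := h (k : ZMod p) hs0
        rwa [← hzk, hess] at h1
  have hXne : ∀ φ : IrrCharacter G, IsXm p ζ z k φ.1 ∨ IsXp p ζ z k φ.1 →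
      φ.1 z ≠ φ.1 (z ^ k) := by
    intro φ h
    rcases h with h | h
    · rcases hXm φ h with ⟨h1, h2⟩ | ⟨h1, h2⟩
      · rw [h1, h2]
        exact hne
      · rw [h1, h2]
        exact hne.symm
    · rcases hXp φ h with ⟨h1, h2⟩ | ⟨h1, h2⟩
      · rw [h1, h2]
        exact fun h3 => hne (neg_injective h3)
      · rw [h1, h2]
        exact fun h3 => hne (neg_injective h3).symm
  -- the trivial character
  have hT : ∀ φ : IrrCharacter G, φ.1 = (fun _ => 1) ↔ φ = Cfsg.Agent.Lib.Helper83.trivIrr G :=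
    fun φ => ⟨fun h => Subtype.ext h, fun h => by rw [h]; rfl⟩
  have hdegT : charDegree (Cfsg.Agent.Lib.Helper83.trivIrr G).1 = 1 := by
    have h1 := hdg (Cfsg.Agent.Lib.Helper83.trivIrr G)
    have h2 : (Cfsg.Agent.Lib.Helper83.trivIrr G).1 1 = 1 := rfl
    rw [h2] at h1
    exact_mod_cast h1.symm
  have hm1T : m₁ (Cfsg.Agent.Lib.Helper83.trivIrr G) = 1 := h11 _ rfl
  have hm2T : m₂ (Cfsg.Agent.Lib.Helper83.trivIrr G) = 0 := by
    by_contra h
    obtain ⟨-, h' | h'⟩ := hl2 _ h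
    · have := h'.2
      omega
    · have := h'.2
      omega
  -- existence of `φ₀`
  have hex : ∃ φ₀ : IrrCharacter G, m₂ φ₀ ≠ 0 ∧ IsXm p ζ z k φ₀.1 ∧ charDegree φ₀.1 = e := by
    by_contra hcon
    push Not at hcon
    have h1 : ∀ φ : IrrCharacter G, m₂ φ * charDegree φ.1 = (2 * e) * m₂ φ := by
      intro φ
      by_cases h : m₂ φ = 0
      · simp [h]
      · obtain ⟨-, h' | h'⟩ := hl2 φ h
        · rw [h'.2]
          have h3 : p - 1 = 2 * e := by omega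
          rw [h3]
          ring
        · exact absurd h'.2 (hcon φ h h'.1)
    rw [Finset.sum_congr rfl (fun φ _ => h1 φ), ← Finset.mul_sum] at hd2
    obtain ⟨j, hj⟩ := hodd
    have h4 : e * (2 * ∑ φ : IrrCharacter G, m₂ φ) = e * e := by
      rw [← pow_two, ← hd2]
      ring
    have h5 := Nat.eq_of_mul_eq_mul_left (by omega) h4
    omega
  obtain ⟨φ₀, hm2φ₀, hXφ₀, hdegφ₀⟩ := hex
  have hTZφ₀ : TrivZ φ₀.1 := (hl2 φ₀ hm2φ₀).1
  have hneφ₀ : φ₀.1 z ≠ φ₀.1 (z ^ k) := hXne φ₀ (Or.inl hXφ₀)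
  have hgcne : gc hk φ₀ ≠ φ₀ := by
    intro h
    apply hneφ₀
    have h1 := gc_apply hk φ₀ z
    rw [h] at h1
    exact h1
  have hdeggc : charDegree (gc hk φ₀).1 = e := by
    have h1 := hdg (gc hk φ₀)
    rw [gc_apply, one_pow, hdg φ₀] at h1
    have h2 := Nat.cast_injective h1
    omega
  have hTZgc : TrivZ (gc hk φ₀).1 := hgc3 φ₀ hTZφ₀
  have hφ₀T : φ₀ ≠ Cfsg.Agent.Lib.Helper83.trivIrr G := by
    intro h
    rw [h] at hdegφ₀
    omega
  have hgcT : gc hk φ₀ ≠ Cfsg.Agent.Lib.Helper83.trivIrr G := by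
    intro h
    rw [h] at hdeggc
    omega
  -- classification of the constituents
  have hA : ∀ φ : IrrCharacter G, φ ≠ Cfsg.Agent.Lib.Helper83.trivIrr G → m₁ φ ≠ 0 →
      TrivZ φ.1 ∧ IsEp p z φ.1 ∧ charDegree φ.1 = 2 * e + 2 ∧ m₁ φ = 1 := by
    intro φ hφT hm
    have hφ1 : φ.1 ≠ fun _ => 1 := fun h => hφT ((hT φ).1 h)
    obtain ⟨htz, h | h⟩ := hl1 φ hφ1 hm
    · exact ⟨htz, h.1, by rw [h.2]; omega, hmu φ hφ1 hm⟩
    · exfalso
      have h2 := h.2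
      rcases huq φ₀ φ hTZφ₀ htz hneφ₀ (hXne φ (Or.inr h.1)) with h' | h'
      · rw [h'] at h2
        omega
      · rw [h'] at h2
        omega
  have hB : ∀ φ : IrrCharacter G, m₂ φ ≠ 0 → φ ≠ φ₀ → φ ≠ gc hk φ₀ →
      TrivZ φ.1 ∧ IsEm p z φ.1 ∧ charDegree φ.1 = 2 * e := by
    intro φ hm h1 h2
    obtain ⟨htz, h | h⟩ := hl2 φ hm
    · exact ⟨htz, h.1, by rw [h.2]; omega⟩
    · exfalso
      rcases huq φ₀ φ hTZφ₀ htz hneφ₀ (hXne φ (Or.inl h.1)) with h' | h'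
      · exact h1 h'
      · exact h2 h'
  have hm1φ₀ : m₁ φ₀ = 0 := by
    by_contra h
    have := (hA φ₀ hφ₀T h).2.2.1
    omega
  have hm1gc : m₁ (gc hk φ₀) = 0 := by
    by_contra h
    have := (hA _ hgcT h).2.2.1
    omega
  -- the counting
  have hS1 : 2 * ∑ φ : IrrCharacter G, m₁ φ = e + 1 := by
    have h1 : ∀ φ : IrrCharacter G, m₁ φ * charDegree φ.1 +
        (2 * e + 1) * (if φ = Cfsg.Agent.Lib.Helper83.trivIrr G then 1 else 0) =
        (2 * e + 2) * m₁ φ := by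
      intro φ
      by_cases hφ : φ = Cfsg.Agent.Lib.Helper83.trivIrr G
      · rw [if_pos hφ, hφ, hm1T, hdegT]
        ring
      · rw [if_neg hφ]
        by_cases hm : m₁ φ = 0
        · simp [hm]
        · obtain ⟨-, -, hd, h1⟩ := hA φ hφ hm
          rw [h1, hd]
          ring
    have h2 := Finset.sum_congr (rfl : (Finset.univ : Finset (IrrCharacter G)) = Finset.univ)
      (fun φ _ => h1 φ)
    rw [Finset.sum_add_distrib, hd1, ← Finset.mul_sum, ← Finset.mul_sum,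
      Finset.sum_ite_eq' Finset.univ (Cfsg.Agent.Lib.Helper83.trivIrr G) (fun _ => 1),
      if_pos (Finset.mem_univ _)] at h2
    have h3 : (e + 1) * (2 * ∑ φ : IrrCharacter G, m₁ φ) = (e + 1) * (e + 1) := by
      calc (e + 1) * (2 * ∑ φ : IrrCharacter G, m₁ φ)
          = (2 * e + 2) * ∑ φ : IrrCharacter G, m₁ φ := by ring
        _ = e ^ 2 + (2 * e + 1) * 1 := h2.symm
        _ = (e + 1) * (e + 1) := by ring
    exact Nat.eq_of_mul_eq_mul_left (by omega) h3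
  have hN1 : ∑ φ : IrrCharacter G, (m₁ φ) ^ 2 = ∑ φ : IrrCharacter G, m₁ φ := by
    refine Finset.sum_congr rfl (fun φ _ => ?_)
    by_cases hφ : φ = Cfsg.Agent.Lib.Helper83.trivIrr G
    · rw [hφ, hm1T]
      norm_num
    · by_cases hm : m₁ φ = 0
      · rw [hm]
        norm_num
      · rw [(hA φ hφ hm).2.2.2]
        norm_num
  have hS2 : 2 * ∑ φ : IrrCharacter G, m₂ φ = e + m₂ φ₀ + m₂ (gc hk φ₀) := by
    have h1 : ∀ φ : IrrCharacter G, m₂ φ * charDegree φ.1 +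
        e * ((if φ = φ₀ then m₂ φ₀ else 0) + (if φ = gc hk φ₀ then m₂ (gc hk φ₀) else 0)) =
        (2 * e) * m₂ φ := by
      intro φ
      by_cases h1 : φ = φ₀
      · rw [h1, if_pos rfl, if_neg hgcne.symm, hdegφ₀]
        ring
      · by_cases h2 : φ = gc hk φ₀
        · rw [h2, if_neg hgcne, if_pos rfl, hdeggc]
          ring
        · rw [if_neg h1, if_neg h2]
          by_cases hm : m₂ φ = 0
          · simp [hm]
          · rw [(hB φ hm h1 h2).2.2]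
            ring
    have h2 := Finset.sum_congr (rfl : (Finset.univ : Finset (IrrCharacter G)) = Finset.univ)
      (fun φ _ => h1 φ)
    rw [Finset.sum_add_distrib, hd2, ← Finset.mul_sum, ← Finset.mul_sum, Finset.sum_add_distrib,
      Finset.sum_ite_eq' Finset.univ φ₀ (fun _ => m₂ φ₀),
      Finset.sum_ite_eq' Finset.univ (gc hk φ₀) (fun _ => m₂ (gc hk φ₀)),
      if_pos (Finset.mem_univ _), if_pos (Finset.mem_univ _)] at h2
    have h3 : e * (2 * ∑ φ : IrrCharacter G, m₂ φ) = e * (e + m₂ φ₀ + m₂ (gc hk φ₀)) := by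
      calc e * (2 * ∑ φ : IrrCharacter G, m₂ φ)
          = (2 * e) * ∑ φ : IrrCharacter G, m₂ φ := by ring
        _ = e ^ 2 + e * (m₂ φ₀ + m₂ (gc hk φ₀)) := h2.symm
        _ = e * (e + m₂ φ₀ + m₂ (gc hk φ₀)) := by ring
    exact Nat.eq_of_mul_eq_mul_left (by omega) h3
  have hge : ∀ φ : IrrCharacter G, m₂ φ ≤ (m₂ φ) ^ 2 := fun φ => Nat.le_self_pow (by norm_num) _
  have hN2 : ∑ φ : IrrCharacter G, m₂ φ ≤ ∑ φ : IrrCharacter G, (m₂ φ) ^ 2 :=
    Finset.sum_le_sum (fun φ _ => hge φ)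
  have hu : m₂ φ₀ = 1 := by omega
  have hv : m₂ (gc hk φ₀) = 0 := by omega
  have hm2le : ∀ φ : IrrCharacter G, m₂ φ ≤ 1 := by
    intro φ
    by_contra hcon
    have hlt : ∑ φ : IrrCharacter G, m₂ φ < ∑ φ : IrrCharacter G, (m₂ φ) ^ 2 :=
      Finset.sum_lt_sum (fun ψ _ => hge ψ) ⟨φ, Finset.mem_univ _, by nlinarith⟩
    omega
  -- the budget
  have hpR : (p : ℝ) = 2 * (e : ℝ) + 1 := by
    rw [← hdeg]
    push_cast
    ring
  have hcardnz : ((Finset.univ.filter (fun t : ZMod p => t ≠ 0)).card : ℝ) = 2 * (e : ℝ) := by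
    rw [hpco_card_ne_zero p]
    have h3 : p - 1 = 2 * e := by omega
    rw [h3]
    push_cast
    ring
  have hBudE : ∀ φ : IrrCharacter G, (∀ t : ZMod p, t ≠ 0 → ‖φ.1 (z ^ t.val)‖ = 1) →
      ∑ t ∈ Finset.univ.filter (fun t : ZMod p => t ≠ 0), ‖φ.1 (z ^ t.val)‖ ^ 2 =
        2 * (e : ℝ) := by
    intro φ h
    have hc : ∑ t ∈ Finset.univ.filter (fun t : ZMod p => t ≠ 0), ‖φ.1 (z ^ t.val)‖ ^ 2 =
        ∑ t ∈ Finset.univ.filter (fun t : ZMod p => t ≠ 0), (1 : ℝ) :=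
      Finset.sum_congr rfl (fun t ht => by rw [h t (Finset.mem_filter.mp ht).2, one_pow])
    rw [hc, Finset.sum_const, nsmul_eq_mul, mul_one, hcardnz]
  have hBudφ₀ : ∑ t ∈ Finset.univ.filter (fun t : ZMod p => t ≠ 0), ‖φ₀.1 (z ^ t.val)‖ ^ 2 =
      (e : ℝ) * ((e : ℝ) + 1) := by
    rcases hXφ₀ with h | h
    · have hc : ∑ t ∈ Finset.univ.filter (fun t : ZMod p => t ≠ 0), ‖φ₀.1 (z ^ t.val)‖ ^ 2 =
          ∑ t ∈ Finset.univ.filter (fun t : ZMod p => t ≠ 0), ‖eta p ζ t‖ ^ 2 :=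
        Finset.sum_congr rfl (fun t ht => by rw [h t (Finset.mem_filter.mp ht).2])
      rw [hc]
      exact hpco_eta_sq_sum p e hdeg ζ hζ
    · have hc : ∑ t ∈ Finset.univ.filter (fun t : ZMod p => t ≠ 0), ‖φ₀.1 (z ^ t.val)‖ ^ 2 =
          ∑ t ∈ Finset.univ.filter (fun t : ZMod p => t ≠ 0),
            (fun x : ZMod p => ‖eta p ζ x‖ ^ 2) ((k : ZMod p) * t) :=
        Finset.sum_congr rfl (fun t ht => by rw [h t (Finset.mem_filter.mp ht).2])
      rw [hc, hpco_reindex p (k : ZMod p) hs0 (fun x : ZMod p => ‖eta p ζ x‖ ^ 2)]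
      exact hpco_eta_sq_sum p e hdeg ζ hζ
  have hBudgc : ∑ t ∈ Finset.univ.filter (fun t : ZMod p => t ≠ 0),
      ‖(gc hk φ₀).1 (z ^ t.val)‖ ^ 2 = (e : ℝ) * ((e : ℝ) + 1) := by
    have hc : ∑ t ∈ Finset.univ.filter (fun t : ZMod p => t ≠ 0),
        ‖(gc hk φ₀).1 (z ^ t.val)‖ ^ 2 =
        ∑ t ∈ Finset.univ.filter (fun t : ZMod p => t ≠ 0),
          (fun x : ZMod p => ‖φ₀.1 (z ^ x.val)‖ ^ 2) ((k : ZMod p) * t) :=
      Finset.sum_congr rfl (fun t _ => by rw [hgc2 φ₀ t])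
    rw [hc, hpco_reindex p (k : ZMod p) hs0 (fun x : ZMod p => ‖φ₀.1 (z ^ x.val)‖ ^ 2)]
    exact hBudφ₀
  have hS1R : (∑ φ : IrrCharacter G, (m₁ φ : ℝ)) = ((e : ℝ) + 1) / 2 := by
    have h : ((2 * ∑ φ : IrrCharacter G, m₁ φ : ℕ) : ℝ) = ((e + 1 : ℕ) : ℝ) := by rw [hS1]
    push_cast at h
    linarith
  have hS2R : (∑ φ : IrrCharacter G, (m₂ φ : ℝ)) = ((e : ℝ) + 1) / 2 := by
    rw [hu, hv] at hS2
    have h : ((2 * ∑ φ : IrrCharacter G, m₂ φ : ℕ) : ℝ) = ((e + 1 + 0 : ℕ) : ℝ) := by rw [hS2]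
    push_cast at h
    linarith
  obtain ⟨f, hf⟩ : ∃ f : IrrCharacter G → ℝ, ∀ φ, f φ =
      2 * (e : ℝ) * ((m₁ φ : ℝ) + (m₂ φ : ℝ)) +
        ((e : ℝ) * ((e : ℝ) + 1) - 2 * (e : ℝ)) * (if φ = φ₀ then 1 else 0) +
        (e : ℝ) * ((e : ℝ) + 1) * (if φ = gc hk φ₀ then 1 else 0) := ⟨_, fun φ => rfl⟩
  have hfsum : ∑ φ : IrrCharacter G, f φ = (p : ℝ) * ((p : ℝ) - 1) := by
    rw [Finset.sum_congr rfl (fun φ _ => hf φ)]
    rw [Finset.sum_add_distrib, Finset.sum_add_distrib, ← Finset.mul_sum, ← Finset.mul_sum,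
      ← Finset.mul_sum, Finset.sum_add_distrib, hS1R, hS2R,
      Finset.sum_ite_eq' Finset.univ φ₀ (fun _ => (1 : ℝ)),
      Finset.sum_ite_eq' Finset.univ (gc hk φ₀) (fun _ => (1 : ℝ)),
      if_pos (Finset.mem_univ _), if_pos (Finset.mem_univ _), hpR]
    ring
  have hBud : ∀ φ : IrrCharacter G, TrivZ φ.1 →
      f φ ≤ ∑ t ∈ Finset.univ.filter (fun t : ZMod p => t ≠ 0), ‖φ.1 (z ^ t.val)‖ ^ 2 := by
    intro φ _
    rw [hf φ]
    by_cases h1 : φ = φ₀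
    · rw [h1, if_pos rfl, if_neg hgcne.symm, hm1φ₀, hu, hBudφ₀]
      apply le_of_eq
      push_cast
      ring
    · by_cases h2 : φ = gc hk φ₀
      · rw [h2, if_neg hgcne, if_pos rfl, hm1gc, hv, hBudgc]
        apply le_of_eq
        push_cast
        ring
      · rw [if_neg h1, if_neg h2]
        by_cases hφT : φ = Cfsg.Agent.Lib.Helper83.trivIrr G
        · rw [hφT, hm1T, hm2T, hBudE _ (fun t _ => by
            show ‖(1 : ℂ)‖ = 1
            exact norm_one)]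
          apply le_of_eq
          push_cast
          ring
        · by_cases hm1 : m₁ φ = 0
          · by_cases hm2 : m₂ φ = 0
            · rw [hm1, hm2]
              have h3 : (0 : ℝ) ≤ ∑ t ∈ Finset.univ.filter (fun t : ZMod p => t ≠ 0),
                  ‖φ.1 (z ^ t.val)‖ ^ 2 := Finset.sum_nonneg (fun t _ => sq_nonneg _)
              simpa using h3
            · have hm2' : m₂ φ = 1 := by
                have := hm2le φ
                omega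
              obtain ⟨-, hEm, -⟩ := hB φ hm2 h1 h2
              rw [hm1, hm2', hBudE φ (fun t ht => by rw [hEm t ht, norm_neg, norm_one])]
              apply le_of_eq
              push_cast
              ring
          · obtain ⟨-, hEp, hd, hm1'⟩ := hA φ hφT hm1
            have hm2 : m₂ φ = 0 := by
              by_contra hm2
              have := (hB φ hm2 h1 h2).2.2
              omega
            rw [hm1', hm2, hBudE φ (fun t ht => by rw [hEp t ht, norm_one])]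
            apply le_of_eq
            push_cast
            ring
  have hfz : ∀ φ : IrrCharacter G, ¬ TrivZ φ.1 → f φ = 0 := by
    intro φ hφ
    have h1 : φ ≠ φ₀ := fun h => hφ (h ▸ hTZφ₀)
    have h2 : φ ≠ gc hk φ₀ := fun h => hφ (h ▸ hTZgc)
    have hφT : φ ≠ Cfsg.Agent.Lib.Helper83.trivIrr G := by
      intro h
      apply hφ
      rw [h]
      intro u _
      rfl
    have hm1 : m₁ φ = 0 := by
      by_contra hm
      exact hφ (hA φ hφT hm).1
    have hm2 : m₂ φ = 0 := by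
      by_contra hm
      exact hφ (hl2 φ hm).1
    rw [hf φ, if_neg h1, if_neg h2, hm1, hm2]
    simp
  have hfsumT : ∑ φ ∈ Finset.univ.filter (fun φ : IrrCharacter G => TrivZ φ.1), f φ =
      (p : ℝ) * ((p : ℝ) - 1) := by
    rw [← hfsum]
    apply Finset.sum_filter_of_ne
    intro φ _ hne
    by_contra h
    exact hne (hfz φ h)
  have hBudeq : ∀ φ : IrrCharacter G, TrivZ φ.1 →
      ∑ t ∈ Finset.univ.filter (fun t : ZMod p => t ≠ 0), ‖φ.1 (z ^ t.val)‖ ^ 2 = f φ := by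
    have h0 : ∑ φ ∈ Finset.univ.filter (fun φ : IrrCharacter G => TrivZ φ.1),
        ((∑ t ∈ Finset.univ.filter (fun t : ZMod p => t ≠ 0), ‖φ.1 (z ^ t.val)‖ ^ 2) - f φ) =
        0 := by
      rw [Finset.sum_sub_distrib, hbud, hfsumT, sub_self]
    have h1 := (Finset.sum_eq_zero_iff_of_nonneg (fun φ hφ =>
      sub_nonneg.mpr (hBud φ (Finset.mem_filter.mp hφ).2))).mp h0
    intro φ hφ
    have h2 := h1 φ (Finset.mem_filter.mpr ⟨Finset.mem_univ _, hφ⟩)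
    linarith
  have hvan : ∀ φ : IrrCharacter G, TrivZ φ.1 → φ ≠ φ₀ → φ ≠ gc hk φ₀ → m₁ φ = 0 →
      m₂ φ = 0 → φ.1 z = 0 := by
    intro φ hφ h1 h2 hm1 hm2
    have h3 := hBudeq φ hφ
    rw [hf φ, if_neg h1, if_neg h2, hm1, hm2] at h3
    have h4 : ∑ t ∈ Finset.univ.filter (fun t : ZMod p => t ≠ 0), ‖φ.1 (z ^ t.val)‖ ^ 2 =
        0 := by
      rw [h3]
      simp
    have h5 := (Finset.sum_eq_zero_iff_of_nonneg (fun t _ => sq_nonneg _)).mp h4 1
      (Finset.mem_filter.mpr ⟨Finset.mem_univ _, one_ne_zero⟩)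
    rw [hz1] at h5
    have h6 : ‖φ.1 z‖ = 0 := by
      have := pow_eq_zero_iff (two_ne_zero) |>.mp h5
      exact this
    exact norm_eq_zero.mp h6
  -- the conclusion
  have he0 : (e : ℂ) ≠ 0 := by
    have : e ≠ 0 := by omega
    exact_mod_cast this
  have he1 : (e : ℂ) + 1 ≠ 0 := by
    exact_mod_cast (Nat.succ_ne_zero e)
  refine ⟨φ₀, hTZφ₀, hgcne, ?_, ?_⟩
  · intro φ hφ h1 h2
    by_cases hφT : φ = Cfsg.Agent.Lib.Helper83.trivIrr G
    · have hφ1 : φ.1 = fun _ => 1 := (hT φ).2 hφT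
      rw [if_pos hφ1, hφT, hm1T, hm2T]
      have e1 : (Cfsg.Agent.Lib.Helper83.trivIrr G).1 z = 1 := rfl
      have e2 : (Cfsg.Agent.Lib.Helper83.trivIrr G).1 (z ^ k) = 1 := rfl
      have e3 : (Cfsg.Agent.Lib.Helper83.trivIrr G).1 1 = 1 := rfl
      rw [e1, e2, e3]
      push_cast
      ring
    · have hφ1 : ¬ φ.1 = fun _ => 1 := fun h => hφT ((hT φ).1 h)
      rw [if_neg hφ1]
      by_cases hm1 : m₁ φ = 0
      · by_cases hm2 : m₂ φ = 0
        · rw [hvan φ hφ h1 h2 hm1 hm2, hm1, hm2]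
          simp
        · have hm2' : m₂ φ = 1 := by
            have := hm2le φ
            omega
          obtain ⟨-, hEm, hd⟩ := hB φ hm2 h1 h2
          have e1 : φ.1 z = -1 := by
            have := hEm 1 one_ne_zero
            rwa [hz1] at this
          have e2 : φ.1 (z ^ k) = -1 := by
            rw [hzk]
            exact hEm _ hs0
          rw [e1, e2, hdg φ, hd, hm1, hm2']
          push_cast
          field_simp
          ring
      · obtain ⟨-, hEp, hd, hm1'⟩ := hA φ hφT hm1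
        have hm2 : m₂ φ = 0 := by
          by_contra hm2
          have := (hB φ hm2 h1 h2).2.2
          omega
        have e1 : φ.1 z = 1 := by
          have := hEp 1 one_ne_zero
          rwa [hz1] at this
        have e2 : φ.1 (z ^ k) = 1 := by
          rw [hzk]
          exact hEp _ hs0
        rw [e1, e2, hdg φ, hd, hm1', hm2]
        push_cast
        field_simp
        ring
  · have g1 : (gc hk φ₀).1 z = φ₀.1 (z ^ k) := gc_apply hk φ₀ z
    have g2 : (gc hk φ₀).1 (z ^ k) = φ₀.1 z := by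
      have h1 := gc_apply hk (gc hk φ₀) z
      rw [hgc1 φ₀] at h1
      exact h1.symm
    have hab : φ₀.1 z + φ₀.1 (z ^ k) = -1 := by
      rcases hXm φ₀ hXφ₀ with ⟨h1, h2⟩ | ⟨h1, h2⟩
      · rw [h1, h2]
        exact hsum
      · rw [h1, h2, add_comm]
        exact hsum
    rw [g1, g2, hm1φ₀, hm1gc, hu, hv, hdg φ₀, hdg (gc hk φ₀), hdegφ₀, hdeggc]
    have h3 : φ₀.1 z * (φ₀.1 z + φ₀.1 (z ^ k)) / (e : ℂ) +
        φ₀.1 (z ^ k) * (φ₀.1 (z ^ k) + φ₀.1 z) / (e : ℂ) =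
        (φ₀.1 z + φ₀.1 (z ^ k)) ^ 2 / (e : ℂ) := by ring
    rw [h3, hab]
    push_cast
    ring

end Cfsg.Agent.Lib.Helper12.HPT
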