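import Mathlib

/-! S2134 (helper70), piece FIX: counting `{x : G | z • xH = xH}` in two ways. -/

set_option autoImplicit false

namespace Cfsg.Agent.Lib.Helper12.HeCFIX

/-- PIECE FIX.  Counting `{x : G | z • xH = xH}` in two ways. -/
theorem card_centralizer_mul_le {G : Type} [Group G] [Finite G] (H : Subgroup G) (z : G) (n m : ℕ)
    (g : Fin n → G) (hg : ∀ i, g i * z * (g i)⁻¹ ∈ H)
    (hinj : ∀ i j, g i * z * (g i)⁻¹ = g j * z * (g j)⁻¹ → i = j)
    (hfix : Nat.card {x : G ⧸ H // z • x = x} ≤ m) :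
    Nat.card (Subgroup.centralizer ({z} : Set G)) * n ≤ m * Nat.card H := by
  classical
  have h1 : Nat.card (QuotientGroup.mk ⁻¹' {q : G ⧸ H | z • q = q} : Set G) =
      Nat.card H * Nat.card ({q : G ⧸ H | z • q = q} : Set (G ⧸ H)) := by
    rw [Nat.card_congr (QuotientGroup.preimageMkEquivSubgroupProdSet H _), Nat.card_prod]
  have h2 : Nat.card ({q : G ⧸ H | z • q = q} : Set (G ⧸ H)) ≤ m := hfix
  have hmem : ∀ (c : Subgroup.centralizer ({z} : Set G)) (i : Fin n),
      (c : G) * (g i)⁻¹ ∈ (QuotientGroup.mk ⁻¹' {q : G ⧸ H | z • q = q} : Set G) := by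
    intro c i
    have hc : z * (c : G) = (c : G) * z := Subgroup.mem_centralizer_iff.mp c.2 z rfl
    show z • ((((c : G) * (g i)⁻¹ : G)) : G ⧸ H) = (((c : G) * (g i)⁻¹ : G) : G ⧸ H)
    rw [MulAction.Quotient.smul_mk, smul_eq_mul]
    have e : z * ((c : G) * (g i)⁻¹) = (c : G) * (g i)⁻¹ * (g i * z * (g i)⁻¹) := by
      rw [← mul_assoc, hc]; group
    rw [e]
    exact QuotientGroup.mk_mul_of_mem _ (hg i)
  have h3 : Nat.card (Subgroup.centralizer ({z} : Set G)) * n ≤
      Nat.card (QuotientGroup.mk ⁻¹' {q : G ⧸ H | z • q = q} : Set G) := by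
    have hcard : Nat.card (↥(Subgroup.centralizer ({z} : Set G)) × Fin n) =
        Nat.card (Subgroup.centralizer ({z} : Set G)) * n := by
      rw [Nat.card_prod, Nat.card_fin]
    rw [← hcard]
    apply Nat.card_le_card_of_injective
      (fun p : ↥(Subgroup.centralizer ({z} : Set G)) × Fin n =>
        (⟨(p.1 : G) * (g p.2)⁻¹, hmem p.1 p.2⟩ :
          (QuotientGroup.mk ⁻¹' {q : G ⧸ H | z • q = q} : Set G)))
    rintro ⟨c, i⟩ ⟨c', j⟩ h
    have hx : (c : G) * (g i)⁻¹ = (c' : G) * (g j)⁻¹ := congrArg Subtype.val h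
    have key : ∀ (d : Subgroup.centralizer ({z} : Set G)) (k : Fin n),
        g k * z * (g k)⁻¹ = ((d : G) * (g k)⁻¹)⁻¹ * z * ((d : G) * (g k)⁻¹) := by
      intro d k
      have hd : z * (d : G) = (d : G) * z := Subgroup.mem_centralizer_iff.mp d.2 z rfl
      have hd' : (d : G)⁻¹ * z * (d : G) = z := by
        rw [mul_assoc, hd, ← mul_assoc, inv_mul_cancel, one_mul]
      calc g k * z * (g k)⁻¹ = g k * ((d : G)⁻¹ * z * (d : G)) * (g k)⁻¹ := by rw [hd']
        _ = ((d : G) * (g k)⁻¹)⁻¹ * z * ((d : G) * (g k)⁻¹) := by group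
    have hij : i = j := hinj i j (by rw [key c i, key c' j, hx])
    subst hij
    have hcc : (c : G) = (c' : G) := mul_right_cancel hx
    exact Prod.ext (Subtype.ext hcc) rfl
  calc Nat.card (Subgroup.centralizer ({z} : Set G)) * n
      ≤ Nat.card (QuotientGroup.mk ⁻¹' {q : G ⧸ H | z • q = q} : Set G) := h3
    _ = Nat.card H * Nat.card ({q : G ⧸ H | z • q = q} : Set (G ⧸ H)) := h1
    _ ≤ Nat.card H * m := Nat.mul_le_mul_left _ h2
    _ = m * Nat.card H := Nat.mul_comm _ _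

end Cfsg.Agent.Lib.Helper12.HeCFIX
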