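import Cfsg.Agent.Lib.Helper12.TwoComp

/-!
# 2-groups in which every normal abelian subgroup is cyclic

Tools for Gorenstein 5.4.10(ii): a "modular-type" normal subgroup `T = U ∪ yU` (`U = ⟨a⟩` cyclic of
order `2^n ≥ 8`, `y a y⁻¹ = a^(1+2^(n-1))`) yields a normal abelian non-cyclic subgroup
(`exists_normal_noncyclic_of_modular`), and consequently a self-centralizing cyclic normal subgroup
of a 2-group all of whose normal abelian subgroups are cyclic has index 2
(`index_zpowers_eq_two_of_normal_abelian_cyclic`).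
-/

set_option autoImplicit false
open Cfsg

namespace Cfsg.Agent.Lib.Helper12

section NormAbCyc

variable {P : Type*} [Group P]

theorem zpow_eq_one_of_sq_of_even {z : P} (hz : z ^ 2 = 1) {i : ℤ} (hi : Even i) : z ^ i = 1 := by
  obtain ⟨r, rfl⟩ := hi
  rw [← two_mul, zpow_mul, zpow_ofNat, hz, one_zpow]

theorem zpow_eq_self_of_sq_of_odd {z : P} (hz : z ^ 2 = 1) {i : ℤ} (hi : Odd i) : z ^ i = z := by
  obtain ⟨r, rfl⟩ := hi
  rw [zpow_add, zpow_one, zpow_mul, zpow_ofNat, hz, one_zpow, one_mul]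

theorem pow_two_pow_pred_sq {a : P} {n : ℕ} (hn : 1 ≤ n) (ha : orderOf a = 2 ^ n) :
    (a ^ (2 ^ (n - 1))) ^ 2 = 1 := by
  rw [← pow_mul, ← pow_succ, Nat.sub_add_cancel hn, ← ha]
  exact pow_orderOf_eq_one a

theorem pow_two_pow_pred_ne_one {a : P} {n : ℕ} (hn : 1 ≤ n) (ha : orderOf a = 2 ^ n) :
    a ^ (2 ^ (n - 1)) ≠ 1 := by
  intro h
  have h1 := orderOf_dvd_of_pow_eq_one h
  rw [ha] at h1
  have h2 := Nat.le_of_dvd (by positivity) h1
  have h3 : 2 ^ (n - 1) < 2 ^ n := Nat.pow_lt_pow_right (by norm_num) (by omega)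
  omega

/-- A finite cyclic subgroup `⟨a⟩` has at most one involution. -/
theorem eq_one_or_eq_of_sq_eq_one_of_mem_zpowers [Finite P] {a u z : P}
    (hu : u ∈ Subgroup.zpowers a) (hz : z ∈ Subgroup.zpowers a) (hu2 : u ^ 2 = 1)
    (hz2 : z ^ 2 = 1) (hz1 : z ≠ 1) : u = 1 ∨ u = z := by
  by_cases h1 : u = 1
  · exact Or.inl h1
  · right
    have h := eq_of_sq_eq_one_of_isCyclic (A := Subgroup.zpowers a) (a := ⟨u, hu⟩) (b := ⟨z, hz⟩)
      (Subtype.ext hu2) (Subtype.ext hz2) (fun h => h1 (congrArg Subtype.val h))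
      (fun h => hz1 (congrArg Subtype.val h))
    exact congrArg Subtype.val h

/-- A normal subgroup `T = ⟨a⟩ ∪ y⟨a⟩` of modular type (`a` of order `2^n ≥ 8`,
`y a y⁻¹ = a^(1+2^(n-1))`, `y² ∈ ⟨a⟩`) gives a normal abelian non-cyclic subgroup: `Ω₁(T)`. -/
theorem exists_normal_noncyclic_of_modular [Finite P] (T : Subgroup P) [hTn : T.Normal]
    (a y : P) (n : ℕ) (hn : 3 ≤ n) (ha : orderOf a = 2 ^ n) (haT : a ∈ T) (hyT : y ∈ T)
    (hT : ∀ t ∈ T, t ∈ Subgroup.zpowers a ∨ y⁻¹ * t ∈ Subgroup.zpowers a)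
    (hyU : y ∉ Subgroup.zpowers a) (hy2 : y ^ 2 ∈ Subgroup.zpowers a)
    (hya : y * a * y⁻¹ = a * a ^ (2 ^ (n - 1))) :
    ∃ W : Subgroup P, W.Normal ∧ IsMulCommutative W ∧ ¬ IsCyclic W := by
  classical
  obtain ⟨z, hz⟩ : ∃ z : P, z = a ^ (2 ^ (n - 1)) := ⟨_, rfl⟩
  rw [← hz] at hya
  have hz2 : z ^ 2 = 1 := by rw [hz]; exact pow_two_pow_pred_sq (by omega) ha
  have hz1 : z ≠ 1 := by rw [hz]; exact pow_two_pow_pred_ne_one (by omega) ha
  have hzU : z ∈ Subgroup.zpowers a := by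
    rw [hz]; exact Subgroup.pow_mem _ (Subgroup.mem_zpowers a) _
  have hza : Commute a z := by rw [hz]; exact (Commute.refl a).pow_right _
  have hconj : ∀ i : ℤ, y * a ^ i * y⁻¹ = a ^ i * z ^ i := by
    intro i
    rw [← conj_zpow, hya, hza.mul_zpow]
  have hyz : y * z * y⁻¹ = z := by
    have h1 := hconj ((2 ^ (n - 1) : ℕ) : ℤ)
    rw [zpow_natCast, zpow_natCast, ← hz] at h1
    rw [h1]
    have heven : Even (2 ^ (n - 1) : ℕ) := (Nat.even_pow).mpr ⟨even_two, by omega⟩
    obtain ⟨r, hr⟩ := heven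
    rw [hr, ← two_mul, pow_mul, hz2, one_pow, mul_one]
  have hyz' : y * z = z * y := by
    calc y * z = y * z * y⁻¹ * y := by group
      _ = z * y := by rw [hyz]
  have hzT : ∀ t ∈ T, t * z = z * t := by
    intro t ht
    rcases hT t ht with h | h
    · obtain ⟨i, rfl⟩ := Subgroup.mem_zpowers_iff.mp h
      exact (hza.zpow_left i).eq
    · obtain ⟨i, hi⟩ := Subgroup.mem_zpowers_iff.mp h
      have ht' : t = y * a ^ i := by rw [hi]; group
      rw [ht']
      calc y * a ^ i * z = y * (a ^ i * z) := by group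
        _ = y * (z * a ^ i) := by rw [(hza.zpow_left i).eq]
        _ = (y * z) * a ^ i := by group
        _ = z * y * a ^ i := by rw [hyz']
        _ = z * (y * a ^ i) := by group
  -- an involution outside `⟨a⟩`
  obtain ⟨w, hwT, hwU, hw2⟩ : ∃ w ∈ T, w ∉ Subgroup.zpowers a ∧ w ^ 2 = 1 := by
    obtain ⟨j, hj⟩ := Subgroup.mem_zpowers_iff.mp hy2
    have hcomm : y * a ^ j * y⁻¹ = a ^ j := by rw [hj]; group
    rw [hconj] at hcomm
    have hzj : z ^ j = 1 := by
      have h1 : a ^ j * z ^ j = a ^ j * 1 := by rw [hcomm, mul_one]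
      exact mul_left_cancel h1
    have hjeven : Even j := by
      rcases Int.even_or_odd j with h | h
      · exact h
      · exfalso
        rw [zpow_eq_self_of_sq_of_odd hz2 h] at hzj
        exact hz1 hzj
    obtain ⟨j', rfl⟩ := hjeven
    have key : ∀ i : ℤ, (y * a ^ i) ^ 2 = a ^ (i + (j' + j') + i) * z ^ i := by
      intro i
      have hc : z ^ i * (a ^ (j' + j') * a ^ i) = (a ^ (j' + j') * a ^ i) * z ^ i :=
        (((hza.zpow_left (j' + j')).mul_left (hza.zpow_left i)).zpow_right i).eq.symm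
      have h0 : (y * a ^ i) ^ 2 = (y * a ^ i * y⁻¹) * y ^ 2 * a ^ i := by
        rw [sq, sq]
        simp only [mul_assoc, inv_mul_cancel_left]
      calc (y * a ^ i) ^ 2 = (y * a ^ i * y⁻¹) * y ^ 2 * a ^ i := h0
        _ = a ^ i * z ^ i * a ^ (j' + j') * a ^ i := by rw [hconj, hj]
        _ = a ^ i * (z ^ i * (a ^ (j' + j') * a ^ i)) := by group
        _ = a ^ i * ((a ^ (j' + j') * a ^ i) * z ^ i) := by rw [hc]
        _ = a ^ (i + (j' + j') + i) * z ^ i := by
            rw [zpow_add, zpow_add]; group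
    have hnotU : ∀ i : ℤ, y * a ^ i ∉ Subgroup.zpowers a := by
      intro i hmem
      apply hyU
      have h1 := Subgroup.mul_mem _ hmem
        (Subgroup.zpow_mem _ (Subgroup.mem_zpowers a) (-i))
      have h2 : y * a ^ i * a ^ (-i) = y := by rw [zpow_neg]; group
      rw [h2] at h1
      exact h1
    rcases Int.even_or_odd j' with h | h
    · refine ⟨y * a ^ (-j'), T.mul_mem hyT (T.zpow_mem haT _), hnotU _, ?_⟩
      rw [key, zpow_eq_one_of_sq_of_even hz2 (by simpa using h)]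
      have h0 : -j' + (j' + j') + -j' = 0 := by ring
      rw [h0, zpow_zero, mul_one]
    · refine ⟨y * a ^ (-j' + ((2 ^ (n - 2) : ℕ) : ℤ)), T.mul_mem hyT (T.zpow_mem haT _),
        hnotU _, ?_⟩
      have hodd : Odd (-j' + ((2 ^ (n - 2) : ℕ) : ℤ)) := by
        have he : Even (((2 ^ (n - 2) : ℕ) : ℤ)) := by
          have : Even (2 ^ (n - 2) : ℕ) := (Nat.even_pow).mpr ⟨even_two, by omega⟩
          exact_mod_cast this
        exact (Odd.neg h).add_even he
      rw [key, zpow_eq_self_of_sq_of_odd hz2 hodd]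
      have h0 : -j' + ((2 ^ (n - 2) : ℕ) : ℤ) + (j' + j') + (-j' + ((2 ^ (n - 2) : ℕ) : ℤ)) =
          ((2 ^ (n - 1) : ℕ) : ℤ) := by
        have h1 : (2 : ℤ) ^ (n - 1) = 2 * 2 ^ (n - 2) := by
          rw [← pow_succ']; congr 1; omega
        push_cast
        rw [h1]; ring
      rw [h0, zpow_natCast, ← hz, ← sq, hz2]
  -- the subgroup generated by the involutions of `T`
  set S : Set P := {m : P | m ∈ T ∧ m ^ 2 = 1} with hS
  have hScomm : ∀ m₁ ∈ S, ∀ m₂ ∈ S, m₁ * m₂ = m₂ * m₁ := by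
    rintro m₁ ⟨h1T, h1s⟩ m₂ ⟨h2T, h2s⟩
    by_cases h1U : m₁ ∈ Subgroup.zpowers a
    · rcases eq_one_or_eq_of_sq_eq_one_of_mem_zpowers h1U hzU h1s hz2 hz1 with h | h
      · rw [h, one_mul, mul_one]
      · rw [h]; exact (hzT m₂ h2T).symm
    by_cases h2U : m₂ ∈ Subgroup.zpowers a
    · rcases eq_one_or_eq_of_sq_eq_one_of_mem_zpowers h2U hzU h2s hz2 hz1 with h | h
      · rw [h, one_mul, mul_one]
      · rw [h]; exact hzT m₁ h1T
    have h1' := (hT m₁ h1T).resolve_left h1U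
    have h2' := (hT m₂ h2T).resolve_left h2U
    obtain ⟨i₁, hi₁⟩ := Subgroup.mem_zpowers_iff.mp h1'
    obtain ⟨i₂, hi₂⟩ := Subgroup.mem_zpowers_iff.mp h2'
    have e1 : m₁ = y * a ^ i₁ := by rw [hi₁]; group
    have e2 : m₂ = y * a ^ i₂ := by rw [hi₂]; group
    obtain ⟨i, hi⟩ : ∃ i : ℤ, i = i₂ - i₁ := ⟨_, rfl⟩
    have e3 : m₂ = m₁ * a ^ i := by
      rw [e1, e2, hi, mul_assoc, ← zpow_add]
      congr 2
      ring
    have e4 : m₁ * a ^ i * m₁⁻¹ = a ^ i * z ^ i := by
      rw [e1]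
      calc y * a ^ i₁ * a ^ i * (y * a ^ i₁)⁻¹ = y * (a ^ i₁ * a ^ i * (a ^ i₁)⁻¹) * y⁻¹ := by
            group
        _ = y * a ^ i * y⁻¹ := by
            have h0 : a ^ i₁ * a ^ i * (a ^ i₁)⁻¹ = a ^ i := by
              rw [← zpow_add, ← zpow_neg, ← zpow_add]
              congr 1
              ring
            rw [h0]
        _ = a ^ i * z ^ i := hconj i
    have e5 : m₁ * a ^ i * m₁⁻¹ = (a ^ i)⁻¹ := by
      have h : (m₁ * a ^ i) ^ 2 = 1 := by rw [← e3]; exact h2s
      have hm : m₁⁻¹ = m₁ := by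
        rw [inv_eq_iff_mul_eq_one, ← sq]; exact h1s
      rw [hm]
      rw [sq] at h
      calc m₁ * a ^ i * m₁ = (m₁ * a ^ i * (m₁ * a ^ i)) * (a ^ i)⁻¹ := by group
        _ = (a ^ i)⁻¹ := by rw [h, one_mul]
    have e6 : a ^ i * a ^ i * z ^ i = 1 := by
      have h0 : a ^ i * z ^ i = (a ^ i)⁻¹ := e4.symm.trans e5
      rw [mul_assoc, h0, mul_inv_cancel]
    rcases Int.even_or_odd i with hev | hodd
    · rw [zpow_eq_one_of_sq_of_even hz2 hev, mul_one] at e6
      rcases eq_one_or_eq_of_sq_eq_one_of_mem_zpowers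
        (Subgroup.zpow_mem _ (Subgroup.mem_zpowers a) i) hzU (by rw [sq]; exact e6) hz2 hz1
        with h | h
      · rw [e3, h, mul_one]
      · rw [e3, h, mul_assoc m₁ z m₁, ← hzT m₁ h1T]
    · exfalso
      rw [zpow_eq_self_of_sq_of_odd hz2 hodd] at e6
      have h1 : a ^ (i + i + ((2 ^ (n - 1) : ℕ) : ℤ)) = 1 := by
        rw [zpow_add, zpow_add, zpow_natCast, ← hz]; exact e6
      have h2 := (orderOf_dvd_iff_zpow_eq_one).mpr h1
      rw [ha] at h2
      have h4n : (4 : ℤ) ∣ ((2 ^ n : ℕ) : ℤ) := by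
        refine ⟨((2 ^ (n - 2) : ℕ) : ℤ), ?_⟩
        have h0 : (2 : ℤ) ^ n = 2 ^ 2 * 2 ^ (n - 2) := by
          rw [← pow_add]; congr 1; omega
        push_cast
        rw [h0]; norm_num
      have h4n1 : (4 : ℤ) ∣ ((2 ^ (n - 1) : ℕ) : ℤ) := by
        refine ⟨((2 ^ (n - 3) : ℕ) : ℤ), ?_⟩
        have h0 : (2 : ℤ) ^ (n - 1) = 2 ^ 2 * 2 ^ (n - 3) := by
          rw [← pow_add]; congr 1; omega
        push_cast
        rw [h0]; norm_num
      have h3 : (4 : ℤ) ∣ i + i := (Int.dvd_add_left h4n1).mp (h4n.trans h2)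
      obtain ⟨r, hr⟩ := hodd
      omega
  have hNn : (Subgroup.closure S).Normal := by
    constructor
    intro x hx g
    induction hx using Subgroup.closure_induction with
    | mem x hx =>
      refine Subgroup.subset_closure ⟨hTn.conj_mem x hx.1 g, ?_⟩
      rw [conj_pow, hx.2]
      group
    | one =>
      have h0 : g * 1 * g⁻¹ = 1 := by group
      rw [h0]
      exact Subgroup.one_mem _
    | mul x y _ _ ihx ihy =>
      have h0 : g * (x * y) * g⁻¹ = (g * x * g⁻¹) * (g * y * g⁻¹) := by group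
      rw [h0]
      exact Subgroup.mul_mem _ ihx ihy
    | inv x _ ih =>
      have h0 : g * x⁻¹ * g⁻¹ = (g * x * g⁻¹)⁻¹ := by group
      rw [h0]
      exact Subgroup.inv_mem _ ih
  have hNc : IsMulCommutative (Subgroup.closure S) := Subgroup.isMulCommutative_closure hScomm
  refine ⟨Subgroup.closure S, hNn, hNc, ?_⟩
  intro hcyc
  have hzN : z ∈ Subgroup.closure S :=
    Subgroup.subset_closure ⟨by rw [hz]; exact T.pow_mem haT _, hz2⟩
  have hwN : w ∈ Subgroup.closure S := Subgroup.subset_closure ⟨hwT, hw2⟩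
  have hw1 : w ≠ 1 := fun h => hwU (h ▸ Subgroup.one_mem _)
  have h := eq_of_sq_eq_one_of_isCyclic (A := Subgroup.closure S) (a := ⟨z, hzN⟩) (b := ⟨w, hwN⟩)
    (Subtype.ext hz2) (Subtype.ext hw2) (fun h => hz1 (congrArg Subtype.val h))
    (fun h => hw1 (congrArg Subtype.val h))
  have h' : z = w := congrArg Subtype.val h
  exact hwU (h' ▸ hzU)

/-- `k² ≡ 1 (mod 2^n)` and `k ≡ 1 (mod 4)` force `k ≡ 1 (mod 2^(n-1))`. -/
theorem modEq_one_of_sq_modEq_one {k n : ℕ} (hn : 1 ≤ n) (h1 : k * k ≡ 1 [MOD 2 ^ n])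
    (h4 : k ≡ 1 [MOD 4]) : k ≡ 1 [MOD 2 ^ (n - 1)] := by
  have hk4 : k % 4 = 1 := h4
  obtain ⟨m, rfl⟩ : ∃ m, k = 4 * m + 1 := ⟨k / 4, by omega⟩
  have h2 : 2 ^ n ∣ (4 * m + 1) * (4 * m + 1) - 1 :=
    (Nat.modEq_iff_dvd' (by nlinarith)).mp h1.symm
  have h3 : (4 * m + 1) * (4 * m + 1) - 1 = 8 * m * (2 * m + 1) := by
    have h0 : (4 * m + 1) * (4 * m + 1) = 8 * m * (2 * m + 1) + 1 := by ring
    omega
  rw [h3] at h2
  have hcop : Nat.Coprime (2 ^ n) (2 * m + 1) :=
    Nat.Coprime.pow_left n (Nat.coprime_two_left.mpr ⟨m, rfl⟩)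
  have h4' : 2 ^ n ∣ 8 * m := hcop.dvd_of_dvd_mul_right h2
  have h5 : 2 ^ (n - 1) ∣ 4 * m := by
    have e : 2 ^ n = 2 * 2 ^ (n - 1) := by
      rw [← pow_succ']; congr 1; omega
    rw [e, show 8 * m = 2 * (4 * m) by ring] at h4'
    exact (Nat.mul_dvd_mul_iff_left (by norm_num)).mp h4'
  have h6 : 1 ≡ 4 * m + 1 [MOD 2 ^ (n - 1)] :=
    (Nat.modEq_iff_dvd' (by omega)).mpr (by simpa using h5)
  exact h6.symm

theorem pow_eq_one_or_self_of_sq {z : P} (hz : z ^ 2 = 1) (s : ℕ) : z ^ s = 1 ∨ z ^ s = z := by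
  induction s with
  | zero => left; exact pow_zero z
  | succ s ih =>
    rcases ih with h | h
    · right; rw [pow_succ, h, one_mul]
    · left; rw [pow_succ, h, ← sq, hz]

/-- If `a` has order `2^n` and `k ≡ 1 (mod 2^(n-1))` then `a^k` is `a` or `a * a^(2^(n-1))`. -/
theorem pow_eq_or_of_modEq {a : P} {n k : ℕ} (hn : 2 ≤ n) (ha : orderOf a = 2 ^ n)
    (hk : k ≡ 1 [MOD 2 ^ (n - 1)]) : a ^ k = a ∨ a ^ k = a * a ^ (2 ^ (n - 1)) := by
  have hM : 2 ≤ 2 ^ (n - 1) := by
    calc 2 = 2 ^ 1 := by norm_num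
      _ ≤ 2 ^ (n - 1) := Nat.pow_le_pow_right (by norm_num) (by omega)
  have hk1 : 1 ≤ k := by
    by_contra h
    have h0 : k = 0 := by omega
    rw [h0] at hk
    have h1 : 0 % 2 ^ (n - 1) = 1 % 2 ^ (n - 1) := hk
    rw [Nat.zero_mod, Nat.mod_eq_of_lt (by omega)] at h1
    omega
  have hdvd : 2 ^ (n - 1) ∣ k - 1 := (Nat.modEq_iff_dvd' hk1).mp hk.symm
  obtain ⟨s, hs⟩ := hdvd
  have hk' : k = 1 + 2 ^ (n - 1) * s := by omega
  have hz2 := pow_two_pow_pred_sq (by omega) ha
  rw [hk', pow_add, pow_one, pow_mul]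
  rcases pow_eq_one_or_self_of_sq hz2 s with h | h
  · left; rw [h, mul_one]
  · right; rw [h]

/-- In a finite 2-group all of whose normal abelian subgroups are cyclic, a cyclic normal
self-centralizing proper subgroup `⟨a⟩` of order `2^n ≥ 4` has index 2. -/
theorem index_zpowers_eq_two_of_normal_abelian_cyclic [Finite P] (hP : IsPGroup 2 P)
    (hnc : ∀ A : Subgroup P, A.Normal → IsMulCommutative A → IsCyclic A)
    (a : P) (n : ℕ) (hn2 : 2 ≤ n) (ha : orderOf a = 2 ^ n) (hU : (Subgroup.zpowers a).Normal)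
    (hC : Subgroup.centralizer (Subgroup.zpowers a : Set P) = Subgroup.zpowers a)
    (hne : Subgroup.zpowers a ≠ ⊤) : (Subgroup.zpowers a).index = 2 := by
  classical
  obtain ⟨z, hz⟩ : ∃ z : P, z = a ^ (2 ^ (n - 1)) := ⟨_, rfl⟩
  obtain ⟨c, hc⟩ : ∃ c : P, c = a ^ (2 ^ (n - 2)) := ⟨_, rfl⟩
  have hz2 : z ^ 2 = 1 := by rw [hz]; exact pow_two_pow_pred_sq (by omega) ha
  have hz1 : z ≠ 1 := by rw [hz]; exact pow_two_pow_pred_ne_one (by omega) ha
  have hcz : c ^ 2 = z := by
    rw [hc, hz, ← pow_mul, ← pow_succ]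
    congr 2
    omega
  have hc4 : c ^ 4 = 1 := by
    have h0 : c ^ 4 = (c ^ 2) ^ 2 := by rw [← pow_mul]
    rw [h0, hcz, hz2]
  have hcU : c ∈ Subgroup.zpowers a := by
    rw [hc]; exact Subgroup.pow_mem _ (Subgroup.mem_zpowers a) _
  have hc1 : c ≠ 1 := fun h => hz1 (by rw [← hcz, h, one_pow])
  have hmemU : ∀ y : P, y * a = a * y → y ∈ Subgroup.zpowers a := by
    intro y hy
    rw [← hC, Subgroup.mem_centralizer_iff]
    intro u hu
    obtain ⟨i, rfl⟩ := Subgroup.mem_zpowers_iff.mp hu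
    exact ((Commute.zpow_right (show Commute y a from hy) i).eq).symm
  have hpow : ∀ g : P, ∃ k : ℕ, g * a * g⁻¹ = a ^ k := by
    intro g
    have h1 : g * a * g⁻¹ ∈ Subgroup.zpowers a := hU.conj_mem a (Subgroup.mem_zpowers a) g
    rw [← mem_powers_iff_mem_zpowers] at h1
    obtain ⟨k, hk⟩ := (Submonoid.mem_powers_iff _ _).mp h1
    exact ⟨k, hk.symm⟩
  -- Step A: every conjugate of `c` is `c` or `c⁻¹`
  have hA : ∀ g : P, g * c * g⁻¹ = c ∨ g * c * g⁻¹ = c⁻¹ := by
    intro g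
    have h1 : g * c * g⁻¹ ∈ Subgroup.zpowers a := hU.conj_mem c hcU g
    obtain ⟨i, hi⟩ := Subgroup.mem_zpowers_iff.mp h1
    have h4 : (g * c * g⁻¹) ^ 4 = 1 := by
      rw [conj_pow, hc4]; group
    have h5 : a ^ (i * 4) = 1 := by
      rw [zpow_mul, hi, zpow_ofNat]; exact h4
    have h6 := (orderOf_dvd_iff_zpow_eq_one).mpr h5
    rw [ha] at h6
    have h7 : (((2 ^ (n - 2) : ℕ)) : ℤ) ∣ i := by
      have e : ((2 ^ n : ℕ) : ℤ) = ((2 ^ (n - 2) : ℕ) : ℤ) * 4 := by
        have h0 : (2 : ℤ) ^ n = 2 ^ (n - 2) * 2 ^ 2 := by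
          rw [← pow_add]; congr 1; omega
        push_cast
        rw [h0]; norm_num
      rw [e] at h6
      exact Int.dvd_of_mul_dvd_mul_right (by norm_num) h6
    obtain ⟨j, rfl⟩ := h7
    rw [zpow_mul, zpow_natCast, ← hc] at hi
    have hj : c ^ j = c ^ (j % 4) := by
      conv_lhs => rw [← Int.mul_ediv_add_emod j 4]
      rw [zpow_add, zpow_mul, zpow_ofNat, hc4, one_zpow, one_mul]
    have hlo := Int.emod_nonneg j (by norm_num : (4 : ℤ) ≠ 0)
    have hhi := Int.emod_lt_of_pos j (by norm_num : (0 : ℤ) < 4)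
    rw [hj] at hi
    have hgc1 : g * c * g⁻¹ ≠ 1 := by
      intro h
      apply hc1
      have h0 : c = g⁻¹ * (g * c * g⁻¹) * g := by group
      rw [h0, h]; group
    have hgc2 : (g * c * g⁻¹) ^ 2 ≠ 1 := by
      rw [conj_pow, hcz]
      intro h
      apply hz1
      have h0 : z = g⁻¹ * (g * z * g⁻¹) * g := by group
      rw [h0, h]; group
    obtain ⟨r, hr⟩ : ∃ r : ℤ, r = j % 4 := ⟨_, rfl⟩
    rw [← hr] at hi hlo hhi
    interval_cases r
    · exfalso
      apply hgc1
      rw [← hi, zpow_zero]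
    · left
      rw [← hi, zpow_one]
    · exfalso
      apply hgc2
      rw [← hi, zpow_ofNat, ← pow_mul]
      exact hc4
    · right
      rw [← hi, zpow_ofNat]
      exact eq_inv_of_mul_eq_one_left (by rw [← pow_succ]; exact hc4)
  -- Step B: the centralizer of `c` is `⟨a⟩`
  have hB : ∀ y : P, y * c = c * y → y ∈ Subgroup.zpowers a := by
    by_cases hn3 : n = 2
    · intro y hy
      apply hmemU
      have hca : c = a := by rw [hc, hn3]; simp
      rw [hca] at hy
      exact hy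
    · by_contra hcon
      push Not at hcon
      obtain ⟨y₀, hy₀c, hy₀U⟩ := hcon
      obtain ⟨y, hyc, hyU, hy2⟩ : ∃ y : P, y * c = c * y ∧ y ∉ Subgroup.zpowers a ∧
          y ^ 2 ∈ Subgroup.zpowers a := by
        have hex : ∃ k : ℕ, y₀ ^ (2 ^ k) ∈ Subgroup.zpowers a := by
          obtain ⟨k, hk⟩ := hP y₀
          exact ⟨k, hk ▸ Subgroup.one_mem _⟩
        have hk0 : Nat.find hex ≠ 0 := by
          intro h0
          have h1 := Nat.find_spec hex
          rw [h0, pow_zero, pow_one] at h1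
          exact hy₀U h1
        obtain ⟨j, hj⟩ := Nat.exists_eq_succ_of_ne_zero hk0
        refine ⟨y₀ ^ (2 ^ j), ?_, ?_, ?_⟩
        · exact ((show Commute y₀ c from hy₀c).pow_left _).eq
        · exact Nat.find_min hex (by omega)
        · have h1 := Nat.find_spec hex
          rw [hj, Nat.succ_eq_add_one, pow_succ, pow_mul] at h1
          exact h1
      obtain ⟨k, hk⟩ := hpow y
      have hy2c : y ^ 2 * a = a * y ^ 2 := by
        obtain ⟨i, hi⟩ := Subgroup.mem_zpowers_iff.mp hy2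
        rw [← hi]
        exact ((Commute.refl a).zpow_left i).eq
      have h1 : a ^ (k * k) = a ^ 1 := by
        have e1 : y ^ 2 * a * (y ^ 2)⁻¹ = a := by rw [hy2c]; group
        have e2 : y ^ 2 * a * (y ^ 2)⁻¹ = y * (y * a * y⁻¹) * y⁻¹ := by
          rw [sq, mul_inv_rev]
          simp only [mul_assoc]
        rw [e2, hk, ← conj_pow, hk, ← pow_mul] at e1
        rw [e1, pow_one]
      have hkk : k * k ≡ 1 [MOD 2 ^ n] := by
        rw [← ha]; exact pow_eq_pow_iff_modEq.mp h1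
      have h2 : a ^ (k * 2 ^ (n - 2)) = a ^ (1 * 2 ^ (n - 2)) := by
        have e1 : y * c * y⁻¹ = c := by rw [hyc]; group
        rw [hc, ← conj_pow, hk, ← pow_mul] at e1
        rw [e1, one_mul]
      have hk4 : k ≡ 1 [MOD 4] := by
        have h0 := pow_eq_pow_iff_modEq.mp h2
        rw [ha] at h0
        have e : 2 ^ n = 4 * 2 ^ (n - 2) := by
          have : 2 ^ n = 2 ^ 2 * 2 ^ (n - 2) := by rw [← pow_add]; congr 1; omega
          rw [this]; norm_num
        rw [e] at h0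
        exact Nat.ModEq.mul_right_cancel' (by positivity) h0
      have hk1 := modEq_one_of_sq_modEq_one (by omega) hkk hk4
      rcases pow_eq_or_of_modEq hn2 ha hk1 with h | h
      · apply hyU
        apply hmemU
        rw [h] at hk
        calc y * a = y * a * y⁻¹ * y := by group
          _ = a * y := by rw [hk]
      · rw [h] at hk
        have hU2 : (Subgroup.zpowers (a ^ 2)).Normal := by
          constructor
          intro x hx g
          obtain ⟨i, rfl⟩ := Subgroup.mem_zpowers_iff.mp hx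
          obtain ⟨k', hk'⟩ := hpow g
          rw [← conj_zpow, ← conj_pow, hk', ← pow_mul, mul_comm, pow_mul]
          exact Subgroup.zpow_mem _ (Subgroup.pow_mem _ (Subgroup.mem_zpowers _) _) _
        have hMn : (Subgroup.centralizer (Subgroup.zpowers (a ^ 2) : Set P)).Normal :=
          Subgroup.normal_centralizer
        have haM : a ∈ Subgroup.centralizer (Subgroup.zpowers (a ^ 2) : Set P) := by
          rw [Subgroup.mem_centralizer_iff]
          intro u hu
          obtain ⟨i, rfl⟩ := Subgroup.mem_zpowers_iff.mp hu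
          exact (((Commute.refl a).pow_left 2).zpow_left i).eq
        have hyM : y ∈ Subgroup.centralizer (Subgroup.zpowers (a ^ 2) : Set P) := by
          rw [Subgroup.mem_centralizer_iff]
          intro u hu
          obtain ⟨i, rfl⟩ := Subgroup.mem_zpowers_iff.mp hu
          have e : y * a ^ 2 * y⁻¹ = a ^ 2 := by
            have hcm : Commute a (a ^ (2 ^ (n - 1))) := (Commute.refl a).pow_right _
            rw [← conj_pow, hk, hcm.mul_pow, ← hz, hz2, mul_one]
          have hcomm : Commute y (a ^ 2) := by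
            show y * a ^ 2 = a ^ 2 * y
            calc y * a ^ 2 = y * a ^ 2 * y⁻¹ * y := by group
              _ = a ^ 2 * y := by rw [e]
          exact (hcomm.zpow_right i).eq.symm
        have hTM : ∀ t ∈ Subgroup.centralizer (Subgroup.zpowers (a ^ 2) : Set P),
            t ∈ Subgroup.zpowers a ∨ y⁻¹ * t ∈ Subgroup.zpowers a := by
          intro t ht
          obtain ⟨k', hk'⟩ := hpow t
          have ht2 : a ^ 2 * t = t * a ^ 2 :=
            Subgroup.mem_centralizer_iff.mp ht (a ^ 2) (Subgroup.mem_zpowers _)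
          have e1 : a ^ (2 * k') = a ^ (2 * 1) := by
            have h0 : t * a ^ 2 * t⁻¹ = a ^ 2 := by rw [← ht2]; group
            rw [← conj_pow, hk', ← pow_mul, mul_comm] at h0
            rw [h0]
          have e2 : k' ≡ 1 [MOD 2 ^ (n - 1)] := by
            have h0 := pow_eq_pow_iff_modEq.mp e1
            have e : 2 ^ n = 2 * 2 ^ (n - 1) := by
              rw [← pow_succ']; congr 1; omega
            rw [ha, e] at h0
            exact Nat.ModEq.mul_left_cancel' (by norm_num) h0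
          rcases pow_eq_or_of_modEq hn2 ha e2 with h' | h'
          · left
            apply hmemU
            rw [h'] at hk'
            calc t * a = t * a * t⁻¹ * t := by group
              _ = a * t := by rw [hk']
          · right
            apply hmemU
            rw [h'] at hk'
            have h0 : y⁻¹ * (a * a ^ 2 ^ (n - 1)) * y = a := by rw [← hk]; group
            calc y⁻¹ * t * a = y⁻¹ * (t * a * t⁻¹) * t := by group
              _ = y⁻¹ * (a * a ^ 2 ^ (n - 1)) * t := by rw [hk']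
              _ = (y⁻¹ * (a * a ^ 2 ^ (n - 1)) * y) * (y⁻¹ * t) := by group
              _ = a * (y⁻¹ * t) := by rw [h0]
        obtain ⟨W, hWn, hWc, hWnc⟩ := exists_normal_noncyclic_of_modular
          (Subgroup.centralizer (Subgroup.zpowers (a ^ 2) : Set P)) a y n (by omega) ha haM hyM
          hTM hyU hy2 hk
        exact hWnc (hnc W hWn hWc)
  -- Step C: index two
  rw [Subgroup.index_eq_two_iff]
  obtain ⟨a₀, ha₀⟩ : ∃ a₀ : P, a₀ ∉ Subgroup.zpowers a := by
    by_contra h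
    push Not at h
    exact hne (eq_top_iff.mpr fun x _ => h x)
  have hinv : ∀ b : P, b ∉ Subgroup.zpowers a → b * c * b⁻¹ = c⁻¹ := by
    intro b hb
    refine (hA b).resolve_left (fun h => hb (hB b ?_))
    calc b * c = b * c * b⁻¹ * b := by group
      _ = c * b := by rw [h]
  refine ⟨a₀, fun b => ?_⟩
  by_cases hb : b ∈ Subgroup.zpowers a
  · right
    refine ⟨hb, fun h => ha₀ ?_⟩
    have h1 := Subgroup.mul_mem _ (Subgroup.inv_mem _ hb) h
    have h2 : b⁻¹ * (b * a₀) = a₀ := by group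
    rw [h2] at h1
    exact h1
  · left
    refine ⟨?_, hb⟩
    apply hB
    have hb' := hinv b hb
    have ha' := hinv a₀ ha₀
    calc b * a₀ * c = b * (a₀ * c * a₀⁻¹) * a₀ := by group
      _ = b * c⁻¹ * a₀ := by rw [ha']
      _ = (b * c * b⁻¹)⁻¹ * b * a₀ := by group
      _ = c * (b * a₀) := by rw [hb']; group

end NormAbCyc

end Cfsg.Agent.Lib.Helper12
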