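import Cfsg.Agent.Lib.Helper12.NormAbCyc
import Cfsg.Agent.S0114
import Cfsg.Agent.Lib.Helper7.Quat

/-!
# Recognising dihedral and generalized quaternion groups from generators and relations
-/

set_option autoImplicit false
open Cfsg

namespace Cfsg.Agent.Lib.Helper12

/-- A group of order `2m` with `a` of order `m`, `b ∉ ⟨a⟩`, `b² = 1`, `b a b⁻¹ = a⁻¹` is dihedral. -/
theorem nonempty_mulEquiv_dihedral {G : Type*} [Group G] [Finite G] {m : ℕ} (hm : 0 < m) (a b : G)
    (hcard : Nat.card G = 2 * m) (ha : orderOf a = m) (hb : b ∉ Subgroup.zpowers a)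
    (hb2 : b ^ 2 = 1) (hconj : b * a * b⁻¹ = a⁻¹) : Nonempty (G ≃* DihedralGroup m) := by
  have : NeZero m := ⟨by omega⟩
  have hidx : (Subgroup.zpowers a).index = 2 := by
    have h1 := (Subgroup.zpowers a).card_mul_index
    rw [Nat.card_zpowers, ha, hcard, mul_comm 2 m] at h1
    exact Nat.eq_of_mul_eq_mul_left hm h1
  have R1 : a ^ m = 1 := by rw [← ha]; exact pow_orderOf_eq_one a
  have R2 : b * b = 1 := by rw [← sq]; exact hb2
  have hmul := Cfsg.Agent.S0114.dmap_mul m a b R1 R2 hconj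
  let f : DihedralGroup m →* G := MonoidHom.mk' (Cfsg.Agent.S0114.dmap m a b) hmul
  have hsurj : Function.Surjective f := by
    intro x
    rcases Cfsg.Agent.Lib.Helper3.cases_index2 _ hidx b hb x with hx | hx
    · obtain ⟨k, rfl⟩ := Subgroup.mem_zpowers_iff.mp hx
      refine ⟨DihedralGroup.r (k : ZMod _), ?_⟩
      show a ^ (ZMod.cast ((k : ℤ) : ZMod m) : ℤ) = _
      rw [Cfsg.Agent.S0114.dmap_key _ _ R1 k _ rfl]
    · obtain ⟨k, hk⟩ := Subgroup.mem_zpowers_iff.mp hx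
      refine ⟨DihedralGroup.sr ((-k : ℤ) : ZMod _), ?_⟩
      show b * a ^ (ZMod.cast ((-k : ℤ) : ZMod m) : ℤ) = _
      rw [Cfsg.Agent.S0114.dmap_key _ _ R1 (-k) _ rfl]
      have hxe : x = a ^ k * b := by rw [hk]; group
      rw [hxe, zpow_neg, ← Cfsg.Agent.S0114.dmap_swap _ _ hconj k]
  have hbij : Function.Bijective f :=
    hsurj.bijective_of_nat_card_le (by rw [DihedralGroup.nat_card, hcard])
  exact ⟨(MulEquiv.ofBijective f hbij).symm⟩

/-- A group of order `4m` (`m ≥ 2`) with `a` of order `2m`, `b² = a^m`, `b a b⁻¹ = a⁻¹` is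
generalized quaternion. -/
theorem nonempty_mulEquiv_quaternion {G : Type*} [Group G] [Finite G] {m : ℕ} (hm : 2 ≤ m)
    (a b : G) (hcard : Nat.card G = 4 * m) (ha : orderOf a = 2 * m) (hb2 : b ^ 2 = a ^ m)
    (hconj : b * a * b⁻¹ = a⁻¹) : Nonempty (G ≃* QuaternionGroup m) := by
  have : NeZero m := ⟨by omega⟩
  have hX : b * b = a ^ m := by rw [← sq]; exact hb2
  have hAX : a * b = b * a⁻¹ := by
    have h1 : b * a⁻¹ * b⁻¹ = a := by
      have h0 : b * a⁻¹ * b⁻¹ = (b * a * b⁻¹)⁻¹ := by group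
      rw [h0, hconj, inv_inv]
    calc a * b = (b * a⁻¹ * b⁻¹) * b := by rw [h1]
      _ = b * a⁻¹ := by group
  have hinj := Cfsg.Agent.Lib.Helper7.quatHom_injective hm a b ha hX hAX
  have hbij := hinj.bijective_of_nat_card_le
    (by rw [hcard, Nat.card_eq_fintype_card, QuaternionGroup.card])
  exact ⟨(MulEquiv.ofBijective _ hbij).symm⟩

end Cfsg.Agent.Lib.Helper12
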