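import Mathlib
import Cfsg.Agent.Lib.Helper72.SCDefs
import Cfsg.Agent.Lib.Helper72.Frattini

/-! Project SC (helper72, S4394), piece STR2: a finite `p`-group with the Schmidt property is
abelian or semi-extraspecial. -/

set_option autoImplicit false

namespace Cfsg.Agent.Lib.Helper12.SC

open Cfsg.Agent.Lib.Helper72.SC
open scoped commutatorElement

universe u

/-- right-multiplicativity of the commutator when commutators are central -/
theorem str2_comm_mul {P : Type*} [Group P] (hc : ∀ a b : P, ⁅a, b⁆ ∈ Subgroup.center P)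
    (u v v' : P) : ⁅u, v * v'⁆ = ⁅u, v⁆ * ⁅u, v'⁆ := by
  have hc' : ∀ g : P, g * ⁅u, v'⁆ = ⁅u, v'⁆ * g :=
    fun g => Subgroup.mem_center_iff.mp (hc u v') g
  have e1 : ⁅u, v * v'⁆ = u * v * u⁻¹ * (⁅u, v'⁆ * v⁻¹) := by
    rw [commutatorElement_def, commutatorElement_def]; group
  rw [e1, ← hc' v⁻¹, commutatorElement_def u v]
  simp only [mul_assoc]

/-- `v ↦ ⁅u, v⁆` as a homomorphism (class two) -/
def str2_gR {P : Type*} [Group P] (hc : ∀ a b : P, ⁅a, b⁆ ∈ Subgroup.center P) (u : P) :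
    P →* P :=
  MonoidHom.mk' (fun v => ⁅u, v⁆) (fun v v' => str2_comm_mul hc u v v')

theorem str2_gR_apply {P : Type*} [Group P] (hc : ∀ a b : P, ⁅a, b⁆ ∈ Subgroup.center P)
    (u v : P) : str2_gR hc u v = ⁅u, v⁆ := rfl

/-- the norm map to the abelianization kills `b⁻¹ * y b` and is the `q`-th power on fixed points -/
theorem str2_norm {P : Type*} [Group P] (y : MulAut P) (q : ℕ) (hyq : y ^ q = 1) :
    ∃ φ : P →* Abelianization P, (∀ b : P, φ (b⁻¹ * y b) = 1) ∧
      ∀ z : P, y z = z → φ z = (Abelianization.of z) ^ q := by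
  refine ⟨∏ i ∈ Finset.range q,
    (Abelianization.of (G := P)).comp ((y ^ i : MulAut P).toMonoidHom), ?_, ?_⟩
  · intro b
    rw [MonoidHom.finsetProd_apply]
    have h1 : ∀ i ∈ Finset.range q,
        ((Abelianization.of (G := P)).comp ((y ^ i : MulAut P).toMonoidHom)) (b⁻¹ * y b) =
          (fun j : ℕ => Abelianization.of ((y ^ j) b)) (i + 1) /
            (fun j : ℕ => Abelianization.of ((y ^ j) b)) i := by
      intro i _
      have h2 : (y ^ i) (y b) = (y ^ (i + 1)) b := by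
        rw [pow_succ, MulAut.mul_apply]
      simp only [MonoidHom.comp_apply, MulEquiv.coe_toMonoidHom, map_mul, map_inv, h2]
      rw [div_eq_mul_inv, mul_comm]
    have h3 := Finset.prod_range_div (fun j : ℕ => Abelianization.of ((y ^ j) b)) q
    rw [Finset.prod_congr rfl h1]
    refine h3.trans ?_
    simp only [hyq, pow_zero, MulAut.one_apply]
    exact div_self' _
  · intro z hz
    rw [MonoidHom.finsetProd_apply]
    have hfix : ∀ i : ℕ, (y ^ i) z = z := by
      intro i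
      induction i with
      | zero => simp
      | succ i ih => rw [pow_succ, MulAut.mul_apply, hz, ih]
    have h1 : ∀ i ∈ Finset.range q,
        ((Abelianization.of (G := P)).comp ((y ^ i : MulAut P).toMonoidHom)) z =
          Abelianization.of z := by
      intro i _
      simp only [MonoidHom.comp_apply, MulEquiv.coe_toMonoidHom, hfix i]
    rw [Finset.prod_congr rfl h1, Finset.prod_const, Finset.card_range]

theorem str2_core (h1 : Str1Stmt.{u}) (P : Type u) [Group P] [Finite P] (p : ℕ) [Fact p.Prime]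
    (hP : IsPGroup p P) (hS : SchP p P) :
    (∀ a b : P, ⁅a, b⁆ ∈ Subgroup.center P) ∧ (∀ a : P, a ^ p ∈ Subgroup.center P) ∧
      (∀ a : P, a ∉ Subgroup.center P → ∀ z ∈ Subgroup.center P, ∃ v : P, ⁅a, v⁆ = z) := by
  obtain ⟨y, q, hq, hqp, hyq, hy1, hK⟩ := hS
  obtain ⟨hT, hN⟩ := h1 P p hP y q hq hqp hyq hy1 hK
  by_cases hZ : Subgroup.center P = ⊤
  · refine ⟨fun a b => by rw [hZ]; trivial, fun a => by rw [hZ]; trivial, fun a ha => ?_⟩
    exact absurd (by rw [hZ]; trivial) ha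
  -- the centre is fixed pointwise
  have hZinv : ∀ k ∈ Subgroup.center P, y k ∈ Subgroup.center P := by
    intro k hk
    rw [Subgroup.mem_center_iff] at hk ⊢
    intro g
    have := congrArg y (hk (y.symm g))
    simpa using this
  have hZfix : ∀ k ∈ Subgroup.center P, y k = k := hK _ hZ hZinv
  -- the Frattini subgroup is central
  have hFtop : frattini P ≠ ⊤ := by
    intro htop
    have h2 : (⊥ : Subgroup P) ⊔ frattini P = ⊤ := by rw [htop]; simp
    have h3 : (⊥ : Subgroup P) = ⊤ := frattini_nongenerating h2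
    apply hZ
    rw [eq_top_iff, ← h3]
    exact bot_le
  have hFinv : ∀ k ∈ frattini P, y k ∈ frattini P := by
    intro k hk
    have := Subgroup.characteristic_iff_le_comap.mp (frattini_characteristic (G := P)) y hk
    simpa using this
  have hFfix : ∀ k ∈ frattini P, y k = k := hK _ hFtop hFinv
  have hFZ : frattini P ≤ Subgroup.center P := hN _ inferInstance hFfix
  have hc : ∀ a b : P, ⁅a, b⁆ ∈ Subgroup.center P := fun a b =>
    hFZ (by rw [commutatorElement_def]; exact Cfsg.Agent.Lib.Helper72.comm_mem_frattini hP a b)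
  have hpow : ∀ a : P, a ^ p ∈ Subgroup.center P := fun a =>
    hFZ (Cfsg.Agent.Lib.Helper72.pow_mem_frattini hP a)
  refine ⟨hc, hpow, ?_⟩
  intro u hu z hz
  -- `I` is the set of commutators `⁅u, v⁆`
  have hIZ : (str2_gR hc u).range ≤ Subgroup.center P := by
    rintro _ ⟨v, rfl⟩
    exact hc u v
  have hmemI : ∀ v : P, ⁅u, v⁆ ∈ (str2_gR hc u).range := fun v => ⟨v, rfl⟩
  -- `K` is the set of `w` with all `⁅v, w⁆ ∈ I`
  have hmemK : ∀ w : P, w ∈ (⨅ v : P, (str2_gR hc u).range.comap (str2_gR hc v)) ↔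
      ∀ v : P, ⁅v, w⁆ ∈ (str2_gR hc u).range := by
    intro w
    rw [Subgroup.mem_iInf]
    exact Iff.rfl
  have huK : u ∈ (⨅ v : P, (str2_gR hc u).range.comap (str2_gR hc v)) := by
    rw [hmemK]
    intro v
    rw [← commutatorElement_inv]
    exact Subgroup.inv_mem _ (hmemI v)
  have hZK : Subgroup.center P ≤ (⨅ v : P, (str2_gR hc u).range.comap (str2_gR hc v)) := by
    intro z hz
    rw [hmemK]
    intro v
    have : ⁅v, z⁆ = 1 := by
      rw [commutatorElement_def, Subgroup.mem_center_iff.mp hz v]; group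
    rw [this]; exact Subgroup.one_mem _
  have hKn : (⨅ v : P, (str2_gR hc u).range.comap (str2_gR hc v)).Normal := by
    refine ⟨fun w hw g => ?_⟩
    have : g * w * g⁻¹ = ⁅g, w⁆ * w := by rw [commutatorElement_def]; group
    rw [this]
    exact Subgroup.mul_mem _ (hZK (hc g w)) hw
  have hKinv : ∀ k ∈ (⨅ v : P, (str2_gR hc u).range.comap (str2_gR hc v)),
      y k ∈ (⨅ v : P, (str2_gR hc u).range.comap (str2_gR hc v)) := by
    intro w hw
    rw [hmemK] at hw ⊢
    intro v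
    have h2 : ⁅v, y w⁆ = y ⁅y.symm v, w⁆ := by
      rw [map_commutatorElement]; simp
    rw [h2, hZfix _ (hIZ (hw _))]
    exact hw _
  have hKtop : (⨅ v : P, (str2_gR hc u).range.comap (str2_gR hc v)) = ⊤ := by
    by_contra hne
    have hfix := hK _ hne hKinv
    exact hu (hN _ hKn hfix huK)
  have hDI : commutator P ≤ (str2_gR hc u).range := by
    rw [commutator_def, Subgroup.commutator_le]
    intro a _ b _
    have hb : b ∈ (⨅ v : P, (str2_gR hc u).range.comap (str2_gR hc v)) := by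
      rw [hKtop]; trivial
    exact (hmemK b).mp hb a
  -- the norm map: `z ^ q` is a product of commutators
  obtain ⟨φ, hφ1, hφ2⟩ := str2_norm y q hyq
  have hker : φ.ker = ⊤ := by
    rw [eq_top_iff, ← hT, Subgroup.closure_le]
    rintro c ⟨b, rfl⟩
    exact MonoidHom.mem_ker.mpr (hφ1 b)
  have hφz : φ z = 1 := by
    have : z ∈ φ.ker := by rw [hker]; trivial
    exact MonoidHom.mem_ker.mp this
  have hzq : (Abelianization.of z) ^ q = 1 := by
    rw [← hφ2 z (hZfix z hz)]; exact hφz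
  obtain ⟨k, hk⟩ := hP z
  have hzp : (Abelianization.of z) ^ (p ^ k) = 1 := by
    rw [← map_pow, hk, map_one]
  have hcop : Nat.Coprime q (p ^ k) :=
    ((Nat.coprime_primes hq (Fact.out : p.Prime)).mpr hqp).pow_right k
  have hord : orderOf (Abelianization.of z) = 1 := by
    have hd := Nat.dvd_gcd (orderOf_dvd_of_pow_eq_one hzq) (orderOf_dvd_of_pow_eq_one hzp)
    rw [Nat.Coprime] at hcop
    rw [hcop] at hd
    exact Nat.dvd_one.mp hd
  have hz1 : Abelianization.of z = 1 := orderOf_eq_one_iff.mp hord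
  have hzD : z ∈ commutator P := by
    rw [← Abelianization.ker_of]
    exact MonoidHom.mem_ker.mpr hz1
  obtain ⟨v, hv⟩ := hDI hzD
  exact ⟨v, hv⟩

/-- SC-STR2 -/
theorem str2 (h1 : Str1Stmt.{u}) : Str2Stmt.{u} := by
  intro G _ _ p _ Q hQ hS
  obtain ⟨hc, hpow, hlast⟩ := str2_core h1 ↥Q p hQ hS
  have hmem : ∀ g : G, g ∈ zc Q ↔ ∃ h : g ∈ Q, (⟨g, h⟩ : ↥Q) ∈ Subgroup.center ↥Q := by
    intro g
    unfold zc
    constructor
    · rintro ⟨x, hx, rfl⟩
      exact ⟨x.2, hx⟩
    · rintro ⟨h, hx⟩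
      exact ⟨⟨g, h⟩, hx, rfl⟩
  refine ⟨?_, ?_, ?_, ?_, ?_⟩
  · intro z hz
    exact ((hmem z).mp hz).1
  · intro z hz u hu
    obtain ⟨h, hx⟩ := (hmem z).mp hz
    have := Subgroup.mem_center_iff.mp hx ⟨u, hu⟩
    exact congrArg Subtype.val this
  · intro u hu v hv
    have hx := hc ⟨u, hu⟩ ⟨v, hv⟩
    have h2 : (⁅(⟨u, hu⟩ : ↥Q), ⟨v, hv⟩⁆ : ↥Q).1 ∈ zc Q := ⟨_, hx, rfl⟩
    exact h2
  · intro u hu
    have hx := hpow ⟨u, hu⟩
    have h2 : ((⟨u, hu⟩ : ↥Q) ^ p : ↥Q).1 ∈ zc Q := ⟨_, hx, rfl⟩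
    exact h2
  · intro u hu hnot z hz
    obtain ⟨h, hx⟩ := (hmem z).mp hz
    have hnu : (⟨u, hu⟩ : ↥Q) ∉ Subgroup.center ↥Q := fun h' => hnot ((hmem u).mpr ⟨hu, h'⟩)
    obtain ⟨v, hv⟩ := hlast ⟨u, hu⟩ hnu ⟨z, h⟩ hx
    exact ⟨v.1, v.2, congrArg Subtype.val hv⟩

end Cfsg.Agent.Lib.Helper12.SC
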