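import Mathlib
import Cfsg.Agent.S0046
import Cfsg.Agent.Lib.Helper1.SZ
import Cfsg.Agent.Lib.Helper12.Supersolvable4

/-!
# Minimal non-nilpotent groups (Schmidt) and minimal non-abelian groups (Miller–Moreno)
-/

set_option autoImplicit false

namespace Cfsg.Agent.Lib.Helper12

open Subgroup

variable {G : Type*} [Group G]

theorem le_of_decomp_of_inf_eq_bot {H K N : Subgroup G} (hHK : H ≤ K) (hKN : K ⊓ N = ⊥)
    (hdec : ∀ k ∈ K, ∃ h ∈ H, ∃ n ∈ N, h * n = k) : K ≤ H := by
  intro k hk
  obtain ⟨h, hh, n, hn, rfl⟩ := hdec k hk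
  have hnK : n ∈ K := by
    have : n = h⁻¹ * (h * n) := by group
    rw [this]
    exact mul_mem (inv_mem (hHK hh)) hk
  have hn1 : n ∈ K ⊓ N := ⟨hnK, hn⟩
  rw [hKN, mem_bot] at hn1
  rw [hn1, mul_one]
  exact hh

theorem le_normalizer_of_conj_mem {M H : Subgroup G}
    (h : ∀ m ∈ M, ∀ x ∈ H, m * x * m⁻¹ ∈ H) : M ≤ normalizer (H : Set G) := by
  intro m hm
  rw [mem_normalizer_iff]
  intro x
  constructor
  · exact h m hm x
  · intro hx
    have h1 := h m⁻¹ (inv_mem hm) _ hx
    simpa [mul_assoc] using h1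

/-- **Schmidt.** A finite group which is not nilpotent but all of whose proper subgroups are
nilpotent is the product of a cyclic Sylow `p`-subgroup and a normal Sylow `q`-subgroup. -/
theorem schmidt_structure [Finite G] (hnn : ¬ Group.IsNilpotent G)
    (hsub : ∀ H : Subgroup G, H ≠ ⊤ → Group.IsNilpotent H) :
    ∃ p q : ℕ, p.Prime ∧ q.Prime ∧ p ≠ q ∧ ∃ (P : Sylow p G) (Q : Sylow q G),
      IsCyclic P ∧ (Q : Subgroup G).Normal ∧ (P : Subgroup G) ⊔ Q = ⊤ := by
  classical
  have hsolv : Group.IsSolvable G := Cfsg.Agent.S0046.result (fun M hM => hsub M hM.1)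
  have : Nontrivial G := by
    by_contra hnt
    rw [not_nontrivial_iff_subsingleton] at hnt
    exact hnn inferInstance
  obtain ⟨N, hNn, hNp⟩ := Cfsg.Agent.Lib.Helper1.exists_normal_prime_index G
  obtain ⟨p, hpdef⟩ : ∃ p, N.index = p := ⟨_, rfl⟩
  rw [hpdef] at hNp
  have : Fact p.Prime := ⟨hNp⟩
  have hNtop : N ≠ ⊤ := by
    intro h
    rw [h, index_top] at hpdef
    rw [← hpdef] at hNp
    exact Nat.not_prime_one hNp
  have hNnil : Group.IsNilpotent N := hsub N hNtop
  have hR : ∀ r : ℕ, r.Prime → r ≠ p → ∀ R : Sylow r G, (R : Subgroup G).Normal := by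
    intro r hr hrp R
    have : Fact r.Prime := ⟨hr⟩
    have hRN : (R : Subgroup G) ≤ N :=
      le_of_isPGroup_of_coprime_index R.isPGroup'
        (by rw [hpdef]; exact (Nat.coprime_primes hr hNp).mpr hrp)
    have h1 : ((R.subtype hRN : Sylow r N) : Subgroup N).Normal := inferInstance
    have h2 : ((R.subtype hRN : Sylow r N) : Subgroup N).Characteristic :=
      Sylow.characteristic_of_normal _ h1
    rw [Sylow.coe_subtype] at h2
    have := h2
    have h4 : (((R : Subgroup G).subgroupOf N).map N.subtype).Normal :=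
      ConjAct.normal_of_characteristic_of_normal
    rwa [subgroupOf_map_subtype, inf_of_le_left hRN] at h4
  have hPnn : ∀ P : Sylow p G, ¬ (P : Subgroup G).Normal := by
    intro P hPn
    apply hnn
    apply ((Group.isNilpotent_of_finite_tfae (G := G)).out 3 0).mp
    intro r hr R
    by_cases hrp : r = p
    · subst hrp
      obtain ⟨g, rfl⟩ := MulAction.exists_smul_eq G P R
      rw [Sylow.smul_eq_of_normal]
      exact hPn
    · exact hR r hr.out hrp R
  obtain ⟨P⟩ : Nonempty (Sylow p G) := inferInstance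
  have hex : ∃ q : ℕ, q.Prime ∧ q ≠ p ∧ ∃ Q : Sylow q G, (P : Subgroup G) ⊔ Q = ⊤ := by
    by_contra hno
    push Not at hno
    apply hPnn P
    rw [← normalizer_eq_top_iff, ← index_eq_one]
    rw [Nat.eq_one_iff_not_exists_prime_dvd]
    intro r hr hdvd
    have : Fact r.Prime := ⟨hr⟩
    by_cases hrp : r = p
    · subst hrp
      exact P.not_dvd_index (hdvd.trans (index_dvd_of_le le_normalizer))
    · obtain ⟨R⟩ : Nonempty (Sylow r G) := inferInstance
      have hH : (P : Subgroup G) ⊔ R ≠ ⊤ := hno r hr hrp R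
      have := hsub _ hH
      have h1 : ((P.subtype (le_sup_left : (P : Subgroup G) ≤ (P : Subgroup G) ⊔ R) :
          Sylow p ((P : Subgroup G) ⊔ R : Subgroup G)) :
          Subgroup ((P : Subgroup G) ⊔ R : Subgroup G)).Normal := inferInstance
      rw [Sylow.coe_subtype] at h1
      have h2 := (normal_subgroupOf_iff_le_normalizer le_sup_left).mp h1
      have h3 : (R : Subgroup G) ≤ normalizer ((P : Subgroup G) : Set G) := le_sup_right.trans h2
      exact R.not_dvd_index (hdvd.trans (index_dvd_of_le h3))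
  obtain ⟨q, hq, hqp, Q, hPQ⟩ := hex
  have : Fact q.Prime := ⟨hq⟩
  have hQn : (Q : Subgroup G).Normal := hR q hq hqp Q
  have hdisj : (P : Subgroup G) ⊓ Q = ⊥ :=
    (IsPGroup.disjoint_of_ne p q (Ne.symm hqp) _ _ P.isPGroup' Q.isPGroup').eq_bot
  refine ⟨p, q, hNp, hq, Ne.symm hqp, P, Q, ?_, hQn, hPQ⟩
  by_contra hnc
  apply hPnn P
  rw [← normalizer_eq_top_iff, eq_top_iff, ← hPQ]
  refine sup_le le_normalizer ?_
  apply le_normalizer_of_conj_mem
  intro a ha x hx
  have hxP : zpowers x ≤ (P : Subgroup G) := by rwa [zpowers_le]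
  have hKtop : zpowers x ⊔ (Q : Subgroup G) ≠ ⊤ := by
    intro hK
    apply hnc
    have hle : (P : Subgroup G) ≤ zpowers x := by
      apply le_of_decomp_of_inf_eq_bot hxP hdisj
      intro k _
      have hk : k ∈ zpowers x ⊔ (Q : Subgroup G) := by rw [hK]; exact mem_top k
      exact mem_sup_of_normal_right.mp hk
    refine ⟨⟨⟨x, hx⟩, fun y => ?_⟩⟩
    obtain ⟨k, hk⟩ := mem_zpowers_iff.mp (hle y.2)
    exact mem_zpowers_iff.mpr ⟨k, Subtype.ext (by simpa using hk)⟩
  have := hsub _ hKtop
  have hpg : IsPGroup p ((zpowers x).subgroupOf (zpowers x ⊔ (Q : Subgroup G))) :=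
    (P.isPGroup'.to_le hxP).comap_subtype (K := zpowers x ⊔ (Q : Subgroup G))
  have hidx : ¬ p ∣ ((zpowers x).subgroupOf (zpowers x ⊔ (Q : Subgroup G))).index := by
    intro hdvd
    have h1 : ((zpowers x).subgroupOf (zpowers x ⊔ (Q : Subgroup G))).index =
        (zpowers x ⊓ (Q : Subgroup G)).relIndex Q :=
      relIndex_sup_eq_of_normal (zpowers x) (Q : Subgroup G)
    rw [h1] at hdvd
    have h2 := hdvd.trans (relIndex_dvd_card (zpowers x ⊓ (Q : Subgroup G)) (Q : Subgroup G))
    obtain ⟨n, hn⟩ := IsPGroup.iff_card.mp Q.isPGroup'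
    rw [hn] at h2
    exact hqp ((Nat.prime_dvd_prime_iff_eq hNp hq).mp (hNp.dvd_of_dvd_pow h2)).symm
  have hSn : ((hpg.toSylow hidx : Sylow p (zpowers x ⊔ (Q : Subgroup G) : Subgroup G)) :
      Subgroup (zpowers x ⊔ (Q : Subgroup G) : Subgroup G)).Normal := inferInstance
  rw [IsPGroup.toSylow_coe] at hSn
  have h2 := (normal_subgroupOf_iff_le_normalizer le_sup_left).mp hSn
  have h3 : a ∈ normalizer ((zpowers x : Subgroup G) : Set G) :=
    h2 ((le_sup_right : (Q : Subgroup G) ≤ zpowers x ⊔ (Q : Subgroup G)) ha)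
  exact hxP ((mem_normalizer_iff.mp h3 x).mp (mem_zpowers x))

/-- A finite nilpotent non-abelian group all of whose proper subgroups are abelian is a
`p`-group. -/
theorem isPGroup_of_isNilpotent_of_proper_comm [Finite G] [Group.IsNilpotent G]
    (hna : ¬ IsMulCommutative G) (h : ∀ H : Subgroup G, H ≠ ⊤ → IsMulCommutative H) :
    ∃ p : ℕ, p.Prime ∧ IsPGroup p G := by
  by_contra hno
  push Not at hno
  apply hna
  obtain ⟨e⟩ := ((Group.isNilpotent_of_finite_tfae (G := G)).out 0 4).mp
    (inferInstance : Group.IsNilpotent G)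
  have hcomm : ∀ (p : (Nat.card G).primeFactors) (P : Sylow p G),
      IsMulCommutative (P : Subgroup G) := by
    intro p P
    apply h
    intro htop
    apply hno p (Nat.prime_of_mem_primeFactors p.2)
    have hP := P.isPGroup'
    rw [htop] at hP
    exact hP.of_equiv Subgroup.topEquiv
  rw [isMulCommutative_iff]
  intro a b
  obtain ⟨x, rfl⟩ := e.surjective a
  obtain ⟨y, rfl⟩ := e.surjective b
  rw [← map_mul, ← map_mul]
  congr 1
  funext p P
  exact (isMulCommutative_iff.mp (hcomm p P)) (x p P) (y p P)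

/-- If `x` normalizes the abelian `q`-group `Q`, has order prime to `q` and centralizes the
elements of order dividing `q`, then `x` centralizes `Q`. -/
theorem commute_of_commute_omega {x : G} {Q : Subgroup G} {q : ℕ}
    (hQc : ∀ a ∈ Q, ∀ b ∈ Q, a * b = b * a)
    (hxQ : ∀ a ∈ Q, x * a * x⁻¹ ∈ Q)
    (hQq : IsPGroup q Q) {n : ℕ} (hxn : x ^ n = 1) (hcop : Nat.Coprime n q)
    (hΩ : ∀ a ∈ Q, a ^ q = 1 → Commute x a) :
    ∀ a ∈ Q, Commute x a := by
  have key : ∀ k : ℕ, ∀ a ∈ Q, a ^ (q ^ k) = 1 → Commute x a := by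
    intro k
    induction k with
    | zero =>
      intro a _ ha1
      rw [pow_zero, pow_one] at ha1
      rw [ha1]
      exact Commute.one_right x
    | succ k ih =>
      intro a ha ha1
      have hb : Commute x (a ^ q) := by
        apply ih _ (pow_mem ha q)
        rw [← pow_mul, ← pow_succ']
        exact ha1
      have hdQ : x * a * x⁻¹ * a⁻¹ ∈ Q := mul_mem (hxQ a ha) (inv_mem ha)
      have hcomm1 : Commute (x * a * x⁻¹) a⁻¹ := hQc _ (hxQ a ha) _ (inv_mem ha)
      have hdq : (x * a * x⁻¹ * a⁻¹) ^ q = 1 := by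
        rw [hcomm1.mul_pow, conj_pow, inv_pow, hb.eq]
        group
      have hd : Commute x (x * a * x⁻¹ * a⁻¹) := hΩ _ hdQ hdq
      have hxa : x * a = (x * a * x⁻¹ * a⁻¹) * a * x := by group
      obtain ⟨d, hddef⟩ : ∃ d, d = x * a * x⁻¹ * a⁻¹ := ⟨_, rfl⟩
      rw [← hddef] at hdq hd hxa hdQ
      have hpow : ∀ m : ℕ, x ^ m * a = d ^ m * a * x ^ m := by
        intro m
        induction m with
        | zero => simp
        | succ m ihm =>
          have h1 : x * d ^ m = d ^ m * x := (hd.pow_right m).eq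
          calc x ^ (m + 1) * a = x * (x ^ m * a) := by rw [pow_succ', mul_assoc]
            _ = x * (d ^ m * a * x ^ m) := by rw [ihm]
            _ = (x * d ^ m) * a * x ^ m := by simp only [mul_assoc]
            _ = d ^ m * (x * a) * x ^ m := by rw [h1]; simp only [mul_assoc]
            _ = d ^ m * (d * a * x) * x ^ m := by rw [← hxa]
            _ = d ^ (m + 1) * a * x ^ (m + 1) := by
              rw [pow_succ, pow_succ']
              simp only [mul_assoc]
      have h2 := hpow n
      rw [hxn, one_mul, mul_one] at h2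
      have hdn : d ^ n = 1 := by
        have h3 : d ^ n * a = 1 * a := by rw [one_mul]; exact h2.symm
        exact mul_right_cancel h3
      have hd1 : d = 1 := by
        have h3 : orderOf d ∣ n := orderOf_dvd_of_pow_eq_one hdn
        have h4 : orderOf d ∣ q := orderOf_dvd_of_pow_eq_one hdq
        have h5 : orderOf d = 1 := Nat.eq_one_of_dvd_coprimes hcop h3 h4
        exact orderOf_eq_one_iff.mp h5
      show x * a = a * x
      rw [hxa, hd1, one_mul]
  intro a ha
  obtain ⟨k, hk⟩ := hQq ⟨a, ha⟩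
  exact key k a ha (by simpa using congrArg Subtype.val hk)

/-- **Miller–Moreno.** A finite non-abelian group all of whose proper subgroups are abelian is a
`p`-group, or the product of a cyclic Sylow `p`-subgroup and a normal elementary abelian Sylow
`q`-subgroup. -/
theorem miller_moreno [Finite G] (hna : ¬ IsMulCommutative G)
    (h : ∀ H : Subgroup G, H ≠ ⊤ → IsMulCommutative H) :
    (∃ p : ℕ, p.Prime ∧ IsPGroup p G) ∨ ∃ p q : ℕ, p.Prime ∧ q.Prime ∧ p ≠ q ∧
      ∃ (P : Sylow p G) (Q : Sylow q G), IsCyclic P ∧ (Q : Subgroup G).Normal ∧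
        (IsMulCommutative (Q : Subgroup G) ∧ ∀ a ∈ (Q : Subgroup G), a ^ q = 1) ∧
        (P : Subgroup G) ⊔ Q = ⊤ := by
  classical
  by_cases hnil : Group.IsNilpotent G
  · left
    exact isPGroup_of_isNilpotent_of_proper_comm hna h
  · right
    have hsub : ∀ H : Subgroup G, H ≠ ⊤ → Group.IsNilpotent H := by
      intro H hH
      have hc := h H hH
      let _ : CommGroup H :=
        { (inferInstance : Group H) with mul_comm := isMulCommutative_iff.mp hc }
      exact CommGroup.isNilpotent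
    obtain ⟨p, q, hp, hq, hpq, P, Q, hPc, hQn, hPQ⟩ := schmidt_structure hnil hsub
    have : Fact p.Prime := ⟨hp⟩
    have : Fact q.Prime := ⟨hq⟩
    have hQtop : (Q : Subgroup G) ≠ ⊤ := by
      intro htop
      apply hnil
      have hQ := Q.isPGroup'
      rw [htop] at hQ
      exact (hQ.of_equiv Subgroup.topEquiv).isNilpotent
    have hQc := h _ hQtop
    have hQc' : ∀ a ∈ (Q : Subgroup G), ∀ b ∈ (Q : Subgroup G), a * b = b * a := by
      intro a ha b hb
      have h1 := isMulCommutative_iff.mp hQc ⟨a, ha⟩ ⟨b, hb⟩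
      exact congrArg Subtype.val h1
    have hdisj : (P : Subgroup G) ⊓ Q = ⊥ :=
      (IsPGroup.disjoint_of_ne p q hpq _ _ P.isPGroup' Q.isPGroup').eq_bot
    refine ⟨p, q, hp, hq, hpq, P, Q, hPc, hQn, ⟨hQc, ?_⟩, hPQ⟩
    by_contra hne
    let Ω : Subgroup G :=
      { carrier := {a | a ∈ (Q : Subgroup G) ∧ a ^ q = 1}
        mul_mem' := fun {a b} ha hb => ⟨mul_mem ha.1 hb.1, by
          have hc : Commute a b := hQc' a ha.1 b hb.1
          rw [hc.mul_pow, ha.2, hb.2, one_mul]⟩
        one_mem' := ⟨one_mem _, one_pow _⟩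
        inv_mem' := fun {a} ha => ⟨inv_mem ha.1, by rw [inv_pow, ha.2, inv_one]⟩ }
    have hΩQ : Ω ≤ (Q : Subgroup G) := fun a ha => ha.1
    have hΩn : Ω.Normal :=
      ⟨fun a ha g => ⟨hQn.conj_mem a ha.1 g, by rw [conj_pow, ha.2]; group⟩⟩
    have hΩne : Ω ⊔ (P : Subgroup G) ≠ ⊤ := by
      intro htop
      apply hne
      have hle : (Q : Subgroup G) ≤ Ω := by
        apply le_of_decomp_of_inf_eq_bot hΩQ (by rw [inf_comm]; exact hdisj)
        intro k _
        have hk : k ∈ Ω ⊔ (P : Subgroup G) := by rw [htop]; exact mem_top k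
        exact mem_sup_of_normal_left.mp hk
      intro a ha
      exact (hle ha).2
    have hcK := h _ hΩne
    obtain ⟨⟨x, hxP⟩, hx⟩ := hPc.exists_generator
    have hxΩ : ∀ a ∈ (Q : Subgroup G), a ^ q = 1 → Commute x a := by
      intro a ha haq
      have haΩ : a ∈ Ω := ⟨ha, haq⟩
      have h1 := isMulCommutative_iff.mp hcK
        ⟨x, (le_sup_right : (P : Subgroup G) ≤ Ω ⊔ (P : Subgroup G)) hxP⟩
        ⟨a, (le_sup_left : Ω ≤ Ω ⊔ (P : Subgroup G)) haΩ⟩
      exact congrArg Subtype.val h1
    have hxQ : ∀ a ∈ (Q : Subgroup G), Commute x a := by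
      obtain ⟨n, hn⟩ := P.isPGroup' ⟨x, hxP⟩
      have hxn : x ^ (p ^ n) = 1 := by simpa using congrArg Subtype.val hn
      exact commute_of_commute_omega hQc' (fun a ha => hQn.conj_mem a ha x) Q.isPGroup'
        hxn (Nat.Coprime.pow_left n ((Nat.coprime_primes hp hq).mpr hpq)) hxΩ
    apply hna
    have hP_le : (P : Subgroup G) ≤ zpowers x := by
      intro y hy
      obtain ⟨k, hk⟩ := mem_zpowers_iff.mp (hx ⟨y, hy⟩)
      exact mem_zpowers_iff.mpr ⟨k, by simpa using congrArg Subtype.val hk⟩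
    have hxc : x ∈ center G := by
      rw [mem_center_iff]
      intro g
      have hg : g ∈ (P : Subgroup G) ⊔ Q := by rw [hPQ]; exact mem_top g
      obtain ⟨u, hu, v, hv, rfl⟩ := mem_sup_of_normal_right.mp hg
      have hux : Commute u x := by
        obtain ⟨k, rfl⟩ := mem_zpowers_iff.mp (hP_le hu)
        exact (Commute.refl x).zpow_left k
      have hvx : Commute v x := (hxQ v hv).symm
      exact (hux.mul_left hvx).eq
    have hcenter : center G = ⊤ := by
      rw [eq_top_iff, ← hPQ]
      apply sup_le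
      · exact hP_le.trans ((zpowers_le).mpr hxc)
      · intro a ha
        rw [mem_center_iff]
        intro g
        have hg : g ∈ (P : Subgroup G) ⊔ Q := by rw [hPQ]; exact mem_top g
        obtain ⟨u, hu, v, hv, rfl⟩ := mem_sup_of_normal_right.mp hg
        have hua : Commute u a := by
          obtain ⟨k, rfl⟩ := mem_zpowers_iff.mp (hP_le hu)
          exact (hxQ a ha).zpow_left k
        have hva : Commute v a := hQc' v hv a ha
        exact (hua.mul_left hva).eq
    rw [isMulCommutative_iff]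
    intro a b
    have ha : a ∈ center G := by rw [hcenter]; exact mem_top a
    exact (mem_center_iff.mp ha b).symm

end Cfsg.Agent.Lib.Helper12
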