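import Cfsg.Agent.Lib.Helper41.TW3

/-!
# Thompson–Wielandt: step 1a (components of `Y` lie in `X` when `A2` has a component)
-/

set_option autoImplicit false

namespace Cfsg.Agent.Lib.Helper12.TWP

open Cfsg Cfsg.Agent.Lib.Helper66 Cfsg.Agent.Lib.Helper41.TW

variable {G : Type*} [Group G] [Finite G] {X Y A1 B1 A2 B2 : Subgroup G}

theorem step1a (S : Setting X Y A1 B1 A2 B2) {J0 : Subgroup G} (h0 : RC J0 A2) :
    ∀ J', RC J' Y → J' ≤ X := by
  intro J' hJ'
  have hEle : sSup {J | RC J A2} ≤ A2 := sSup_rc_le A2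
  have hEX : sSup {J | RC J A2} ≤ X := hEle.trans S.A2_le_X
  have hEn : X ≤ Subgroup.normalizer ((sSup {J | RC J A2} : Subgroup G) : Set G) :=
    le_normalizer_sSup_rc S.X_norm_A2
  have hEne : sSup {J | RC J A2} ≠ ⊥ := by
    intro h
    apply h0.ne
    rw [eq_bot_iff, ← h]
    exact le_sSup h0
  have hC : Subgroup.centralizer ((sSup {J | RC J A2} : Subgroup G) : Set G) ≤ X :=
    S.centralizer_le_X hEX hEn hEne
  have hup : ∀ J, RC J A2 → RC J Y := fun J hJ =>
    (hJ.of_normal S.A2_le_B1 S.B1_norm_A2).of_normal S.B1_le_Y S.Y_norm_B1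
  by_cases hex : ∃ J, RC J A2 ∧ J' = J
  · obtain ⟨J, hJ, rfl⟩ := hex
    exact hJ.le.trans S.A2_le_X
  · have hcomm : ∀ J, RC J A2 → J ≤ Subgroup.centralizer (J' : Set G) := by
      intro J hJ
      rcases RC.eq_or_comm hJ' (hup J hJ) with h | h
      · exact absurd ⟨J, hJ, h⟩ hex
      · rw [Subgroup.commutator_comm] at h
        exact Subgroup.commutator_eq_bot_iff_le_centralizer.mp h
    have hE : sSup {J | RC J A2} ≤ Subgroup.centralizer (J' : Set G) :=
      sSup_le fun J hJ => hcomm J hJ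
    have hJ'C : J' ≤ Subgroup.centralizer ((sSup {J | RC J A2} : Subgroup G) : Set G) :=
      Subgroup.le_centralizer_iff.mp hE
    exact hJ'C.trans hC

end Cfsg.Agent.Lib.Helper12.TWP
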