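import Cfsg.Agent.Lib.Helper41.TW3

/-!
# Thompson–Wielandt: step 4d (final contradiction of step 4)
-/

set_option autoImplicit false

namespace Cfsg.Agent.Lib.Helper12.TWP

open Cfsg Cfsg.Agent.Lib.Helper66 Cfsg.Agent.Lib.Helper41.TW

variable {G : Type*} [Group G] [Finite G] {X Y A1 B1 A2 B2 : Subgroup G}

theorem step4d (S : Setting X Y A1 B1 A2 B2) {p : ℕ} (hp : p.Prime) (hne : rp p X ≠ ⊥)
    (h4a : rp p Y ≤ X) (h4c : rp p X ⊓ Y ≤ rp p Y) : False := by
  have : Fact p.Prime := ⟨hp⟩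
  have hcard := S.cardP p
  -- `rp p Y ≠ ⊥`
  have hneY : rp p Y ≠ ⊥ := by
    intro h
    apply hne
    rw [← Subgroup.card_eq_one] at h ⊢
    rw [hcard]; exact h
  have hNY : Subgroup.normalizer ((rp p Y : Subgroup G) : Set G) ≤ Y :=
    S.primY (rp p Y) (rp_le p Y) (le_normalizer_rp p Y) hneY
  have hnorm : rp p Y ≤ Subgroup.normalizer ((rp p X : Subgroup G) : Set G) :=
    h4a.trans (le_normalizer_rp p X)
  have hW : IsPGroup p ↥(rp p X ⊔ rp p Y : Subgroup G) :=
    IsPGroup.to_sup_of_normal_left' (rp_isPGroup p X) (rp_isPGroup p Y) hnorm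
  have hle : rp p X ≤ rp p Y := by
    by_contra hnle
    obtain ⟨v, hv, hv'⟩ := SetLike.not_le_iff_exists.mp hnle
    obtain ⟨u, huW, huP, huN⟩ := Cfsg.Agent.Lib.Helper41.exists_normalizer_not_mem
      (rp p X ⊔ rp p Y) (rp p Y) hW ⟨v, Subgroup.mem_sup_left hv, hv'⟩ le_sup_right
    have huY : u ∈ Y := hNY huN
    obtain ⟨a, ha, b, hb, hab⟩ :=
      Cfsg.Agent.Lib.Helper41.exists_mul_of_mem_sup_right (rp p X) (rp p Y) hnorm huW
    have haY : a ∈ Y := by
      have : a = u * b⁻¹ := by rw [hab]; group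
      rw [this]
      exact Y.mul_mem huY (Y.inv_mem (rp_le p Y hb))
    have ha' : a ∈ rp p Y := h4c ⟨ha, haY⟩
    apply huP
    rw [hab]
    exact (rp p Y).mul_mem ha' hb
  have heq : rp p X = rp p Y :=
    Subgroup.eq_of_le_of_card_ge hle (le_of_eq hcard.symm)
  have hbot : rp p X = ⊥ := by
    apply S.not_both (rp_le p X) (le_normalizer_rp p X)
    rw [heq]
    exact le_normalizer_rp p Y
  exact hne hbot

end Cfsg.Agent.Lib.Helper12.TWP
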